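import Cfsg.Agent.H503.El.O83Main

/-!
# S3938, `PΩ⁺₈(3)`: generation certificates, tools (helper304)

* `rt p q` : the long root element `w ↦ w + f(w, e_p) e_q - f(w, e_q) e_p` of `Ω⁺₈(3)`; matrix `Rm p q`
* `top_of` : a subgroup with elements of order 2, 3, 7, 13 and two non-conjugate subgroups of order 5 is everything
-/

set_option autoImplicit false
set_option maxRecDepth 100000

namespace Cfsg.Agent.H304.Spr

open Subgroup Cfsg Cfsg.Agent Cfsg.Agent.H503.El.O83 Cfsg.Agent.H938.Sax Matrix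

/-- the dual index -/
def sw : I8 → I8 := Sum.swap

/-- the root element -/
def Rm (p q : I8) : M8 := Matrix.of fun r c =>
  (if r = c then 1 else 0) + (if sw c = p then 1 else 0) * (if r = q then 1 else 0) -
    (if sw c = q then 1 else 0) * (if r = p then 1 else 0)

/-- the inverse -/
def Ri (p q : I8) : M8 := Matrix.of fun r c =>
  (if r = c then 1 else 0) - (if sw c = p then 1 else 0) * (if r = q then 1 else 0) +
    (if sw c = q then 1 else 0) * (if r = p then 1 else 0)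

/-- a diagonal involution -/
def Am (p : I8) : M8 := Matrix.of fun r c => if r = c then (if r = p ∨ r = sw p then 2 else 1) else 0

/-- an involution -/
def Bm (p q : I8) : M8 := Matrix.of fun r c => (if r = p ∨ r = sw p then 2 else 1) * Ri p q r c

theorem Am_sq : ∀ p : I8, Am p * Am p = 1 := by decide +kernel
theorem Am_j : ∀ p : I8, (Am p).transpose * J8 * Am p = J8 := by decide +kernel
theorem Bm_sq : ∀ p q : I8, q ≠ p → q ≠ sw p → Bm p q * Bm p q = 1 := by decide +kernel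
theorem Bm_j : ∀ p q : I8, q ≠ p → q ≠ sw p → (Bm p q).transpose * J8 * Bm p q = J8 := by decide +kernel
theorem Am_Bm : ∀ p q : I8, q ≠ p → q ≠ sw p → Am p * Bm p q = Ri p q := by decide +kernel
theorem Ri_sq : ∀ p q : I8, q ≠ p → q ≠ sw p → Ri p q * Ri p q = Rm p q := by decide +kernel

/-- the root element -/
def rt (p q : I8) (h : q ≠ p) (h' : q ≠ sw p) : S8 :=
  comOf (Am p) (Bm p q) (Am_sq p) (Bm_sq p q h h') (Am_j p) (Bm_j p q h h')

theorem rho_rt (p q : I8) (h : q ≠ p) (h' : q ≠ sw p) : rho (rt p q h h') = Rm p q := by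
  unfold rt
  rw [rho_comOf, mul_assoc, Am_Bm p q h h', Ri_sq p q h h']

theorem neg_one_pow_odd {n : ℕ} (hn : Odd n) : (-1 : M8) ^ n = -1 := Odd.neg_one_pow hn

theorem order_pr' {p : ℕ} (hp : p.Prime) (ho : Odd p) {y : S8} (h5 : rho y ^ p = 1) (h1 : rho y ≠ 1) :
    orderOf (pr y) = p := by
  haveI : Fact p.Prime := ⟨hp⟩
  have h6 : y ^ p = 1 := rho_injective (by rw [map_pow, h5, map_one])
  refine orderOf_eq_prime (by rw [← map_pow, h6, map_one]) fun h => ?_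
  have h2 : pr 1 = pr y := by rw [h, map_one]
  rcases pr_eq h2 with h3 | h3
  · rw [map_one] at h3; exact h1 h3
  · rw [map_one] at h3
    rw [h3, neg_one_pow_odd ho] at h5
    exact neg_one_ne h5

theorem order_two {y : S8} (h2 : rho y ^ 2 = 1 ∨ rho y ^ 2 = -1) (h1 : rho y ≠ 1) (h1' : rho y ≠ -1) :
    2 ∣ orderOf (pr y) := by
  by_contra hcon
  have hodd : Odd (orderOf (pr y)) := by
    rw [← Nat.not_even_iff_odd, even_iff_two_dvd]; exact hcon
  have h4 : rho y ^ 4 = 1 := by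
    have h40 : rho y ^ 4 = (rho y ^ 2) ^ 2 := by rw [← pow_mul]
    rw [h40]
    rcases h2 with h2 | h2 <;> rw [h2]
    · exact one_pow 2
    · exact neg_one_sq
  have h5 : y ^ 4 = 1 := rho_injective (by rw [map_pow, h4, map_one])
  have h6 : orderOf (pr y) ∣ 4 := orderOf_dvd_of_pow_eq_one (by rw [← map_pow, h5, map_one])
  have h7 : orderOf (pr y) = 1 := by
    have h8 : Nat.Coprime (orderOf (pr y)) (2 ^ 2) :=
      Nat.Coprime.pow_right 2 (Nat.coprime_comm.1 ((Nat.Prime.coprime_iff_not_dvd Nat.prime_two).2 hcon))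
    exact Nat.Coprime.eq_one_of_dvd h8 h6
  rw [orderOf_eq_one_iff] at h7
  have h8 : pr 1 = pr y := by rw [h7, map_one]
  rcases pr_eq h8 with h3 | h3
  · rw [map_one] at h3; exact h1 h3
  · rw [map_one] at h3; exact h1' h3

theorem fpf {Y : M8} (hY : Y ^ 4 + Y ^ 3 + Y ^ 2 + Y + 1 = 0) (v : I8 → R3) (h3 : Y.mulVec v = v) : v = 0 := by
  have hp : ∀ k : ℕ, (Y ^ k).mulVec v = v := by
    intro k
    induction k with
    | zero => rw [pow_zero, Matrix.one_mulVec]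
    | succ k ih => rw [pow_succ, ← Matrix.mulVec_mulVec, h3, ih]
  have h4 := congrArg (fun M => M.mulVec v) hY
  simp only [Matrix.add_mulVec, hp, h3, Matrix.one_mulVec, Matrix.zero_mulVec] at h4
  ext i
  have h5 := congrFun h4 i
  simp only [Pi.add_apply, Pi.zero_apply] at h5 ⊢
  have h6 : ∀ x : R3, x + x + x + x + x = 0 → x = 0 := by decide
  exact h6 _ h5

/-- two classes of elements of order `5` -/
theorem not_conj' {y y' : S8} (h5 : rho y ^ 5 = 1) {v : I8 → R3} (hv : (rho y).mulVec v = v) (hv0 : v ≠ 0)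
    (h5' : rho y' ^ 5 = 1) (hf : rho y' ^ 4 + rho y' ^ 3 + rho y' ^ 2 + rho y' + 1 = 0) (g : T8) :
    pr y' ∉ zpowers (g * pr y * g⁻¹) := by
  intro h
  obtain ⟨k, hk⟩ := Subgroup.mem_zpowers_iff.1 h
  obtain ⟨g', rfl⟩ := pr_surjective g
  rw [← map_inv, ← map_mul, ← map_mul, ← map_zpow] at hk
  have hy5 : y ^ 5 = 1 := rho_injective (by rw [map_pow, h5, map_one])
  have h1 : rho ((g' * y * g'⁻¹) ^ k) ^ 5 = 1 := by
    rw [← map_pow, ← zpow_natCast, ← _root_.zpow_mul, mul_comm, _root_.zpow_mul, zpow_natCast, conj_pow, hy5]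
    simp
  have hfix : ∀ k : ℤ, (rho (y ^ k)).mulVec v = v := by
    have hnat : ∀ n : ℕ, (rho (y ^ n)).mulVec v = v := by
      intro n
      induction n with
      | zero => rw [pow_zero, map_one, Matrix.one_mulVec]
      | succ n ih => rw [pow_succ, map_mul, ← Matrix.mulVec_mulVec, hv, ih]
    intro k
    have hfo : IsOfFinOrder y := isOfFinOrder_iff_pow_eq_one.2 ⟨5, by norm_num, hy5⟩
    obtain ⟨n, hn⟩ := Submonoid.mem_powers_iff _ _ |>.1 (hfo.mem_powers_iff_mem_zpowers.2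
      (show y ^ k ∈ zpowers y from ⟨k, rfl⟩))
    rw [← hn]
    exact hnat n
  have hw : (rho ((g' * y * g'⁻¹) ^ k)).mulVec ((rho g').mulVec v) = (rho g').mulVec v := by
    rw [conj_zpow, map_mul, map_mul, Matrix.mulVec_mulVec, mul_assoc, mul_assoc, ← map_mul, inv_mul_cancel, map_one,
      mul_one, ← Matrix.mulVec_mulVec, hfix]
  have hw0 : (rho g').mulVec v ≠ 0 := by
    intro h0
    have h2 : (rho g'⁻¹).mulVec ((rho g').mulVec v) = v := by
      rw [Matrix.mulVec_mulVec, ← map_mul, inv_mul_cancel, map_one, Matrix.one_mulVec]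
    rw [h0, Matrix.mulVec_zero] at h2
    exact hv0 h2.symm
  rcases pr_eq hk with h2 | h2
  · rw [← h2] at hw
    exact hw0 (fpf hf _ hw)
  · have h3 := h5'
    rw [h2, Odd.neg_pow (by decide), h1] at h3
    exact neg_one_ne h3

/-- the certificate for generation -/
structure Cert (K : Subgroup T8) (t₂ t₃ y y' z₇ z₁₃ : S8) : Prop where
  m₂ : pr t₂ ∈ K
  o₂ : (rho t₂ ^ 2 = 1 ∨ rho t₂ ^ 2 = -1) ∧ rho t₂ ≠ 1 ∧ rho t₂ ≠ -1
  m₃ : pr t₃ ∈ K
  o₃ : rho t₃ ^ 3 = 1 ∧ rho t₃ ≠ 1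
  my : pr y ∈ K
  oy : rho y ^ 5 = 1 ∧ rho y ≠ 1
  fy : ∃ v : I8 → R3, (rho y).mulVec v = v ∧ v ≠ 0
  my' : pr y' ∈ K
  oy' : rho y' ^ 5 = 1 ∧ rho y' ≠ 1
  fy' : rho y' ^ 4 + rho y' ^ 3 + rho y' ^ 2 + rho y' + 1 = 0
  m₇ : pr z₇ ∈ K
  o₇ : rho z₇ ^ 7 = 1 ∧ rho z₇ ≠ 1
  m₁₃ : pr z₁₃ ∈ K
  o₁₃ : rho z₁₃ ^ 13 = 1 ∧ rho z₁₃ ≠ 1

theorem dvd_of {K : Subgroup T8} {x : T8} (hx : x ∈ K) {n : ℕ} (h : n ∣ orderOf x) : n ∣ Nat.card K :=
  h.trans (Subgroup.orderOf_dvd_natCard K hx)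

/-- **generation** -/
theorem top_of (OT : OrdDiv.OrderTable.{0})
    (hS : ∀ (X : Type) [Group X] [Finite X] [IsSimpleGroup X], Cfsg.IsKnownSimple' X)
    {K : Subgroup T8} {t₂ t₃ y y' z₇ z₁₃ : S8} (h : Cert K t₂ t₃ y y' z₇ z₁₃) : K = ⊤ := by
  by_contra hK
  have d2 := dvd_of h.m₂ (order_two h.o₂.1 h.o₂.2.1 h.o₂.2.2)
  have d3 := dvd_of h.m₃ (n := 3) (by rw [order_pr' Nat.prime_three (by decide) h.o₃.1 h.o₃.2])
  have oy := order_pr' Nat.prime_five (by decide) h.oy.1 h.oy.2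
  have oy' := order_pr' Nat.prime_five (by decide) h.oy'.1 h.oy'.2
  have d5 := dvd_of h.my (n := 5) (by rw [oy])
  have d7 := dvd_of h.m₇ (n := 7) (by rw [order_pr' (by norm_num) (by decide) h.o₇.1 h.o₇.2])
  have d13 := dvd_of h.m₁₃ (n := 13) (by rw [order_pr' (by norm_num) (by decide) h.o₁₃.1 h.o₁₃.2])
  rcases pgap_t8 OT hS K hK with ⟨r, hr, hr1, hr2⟩ | hc
  · rw [card_t8, show 4952179814400 = 2 ^ 12 * 3 ^ 12 * 5 ^ 2 * 7 * 13 by norm_num] at hr1
    have key : r = 2 ∨ r = 3 ∨ r = 5 ∨ r = 7 ∨ r = 13 := by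
      rcases hr.dvd_mul.1 hr1 with h1 | h1
      · rcases hr.dvd_mul.1 h1 with h1 | h1
        · rcases hr.dvd_mul.1 h1 with h1 | h1
          · rcases hr.dvd_mul.1 h1 with h1 | h1
            · exact Or.inl ((Nat.prime_dvd_prime_iff_eq hr Nat.prime_two).1 (hr.dvd_of_dvd_pow h1))
            · exact Or.inr (Or.inl ((Nat.prime_dvd_prime_iff_eq hr Nat.prime_three).1 (hr.dvd_of_dvd_pow h1)))
          · exact Or.inr (Or.inr (Or.inl ((Nat.prime_dvd_prime_iff_eq hr Nat.prime_five).1 (hr.dvd_of_dvd_pow h1))))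
        · exact Or.inr (Or.inr (Or.inr (Or.inl ((Nat.prime_dvd_prime_iff_eq hr (by norm_num)).1 h1))))
      · exact Or.inr (Or.inr (Or.inr (Or.inr ((Nat.prime_dvd_prime_iff_eq hr (by norm_num)).1 h1))))
    rcases key with rfl | rfl | rfl | rfl | rfl
    · exact hr2 d2
    · exact hr2 d3
    · exact hr2 d5
    · exact hr2 d7
    · exact hr2 d13
  · have h25 : ¬ 5 ^ 2 ∣ Nat.card K := by rw [hc]; norm_num
    haveI h5 : Fact (Nat.Prime 5) := ⟨by norm_num⟩
    have ho1 : orderOf (⟨_, h.my⟩ : K) = 5 := by rw [Subgroup.orderOf_mk, oy]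
    have ho2 : orderOf (⟨_, h.my'⟩ : K) = 5 := by rw [Subgroup.orderOf_mk, oy']
    obtain ⟨P, hP⟩ := H970.StabNum.exists_sylow_of_card (T := K) h25 (P := zpowers ⟨_, h.my⟩) (by rw [Nat.card_zpowers, ho1])
    obtain ⟨Q, hQ⟩ := H970.StabNum.exists_sylow_of_card (T := K) h25 (P := zpowers ⟨_, h.my'⟩) (by rw [Nat.card_zpowers, ho2])
    obtain ⟨g, hg⟩ := MulAction.exists_smul_eq K P Q
    have hmem : (⟨_, h.my'⟩ : K) ∈ (Q : Subgroup K) := by rw [hQ]; exact mem_zpowers _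
    rw [← hg, Sylow.coe_subgroup_smul, hP] at hmem
    obtain ⟨w, hw, hwq⟩ := hmem
    obtain ⟨k, rfl⟩ := Subgroup.mem_zpowers_iff.1 hw
    have h3 : (g : T8) * (pr y) ^ k * (g : T8)⁻¹ = pr y' := congrArg Subtype.val hwq
    obtain ⟨v, hv, hv0⟩ := h.fy
    refine not_conj' h.oy.1 hv hv0 h.oy'.1 h.fy' g ?_
    rw [Subgroup.mem_zpowers_iff]
    exact ⟨k, by rw [conj_zpow, h3]⟩

end Cfsg.Agent.H304.Spr
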