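import Cfsg.Agent.H304.Spr.Base

/-!
# S3938, `PΩ⁺₈(3)`: opposite certificate (helper304)

generated by a script
-/

set_option autoImplicit false
set_option maxRecDepth 100000

namespace Cfsg.Agent.H304.Spr.Opp

open Subgroup Cfsg Cfsg.Agent Cfsg.Agent.H503.El.O83 Cfsg.Agent.H938.Sax Matrix

theorem dbl {A B C : M8} {k : ℕ} (h : A ^ k = B) (h2 : B * B = C) : A ^ (k + k) = C := by rw [pow_add, h, h2]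

theorem suc {A B C : M8} {k : ℕ} (h : A ^ k = B) (h2 : B * A = C) : A ^ (k + 1) = C := by rw [pow_succ, h, h2]

def N0 : M8 := Matrix.fromBlocks !![1, 0, 0, 0; 0, 1, 0, 2; 0, 0, 1, 0; 0, 0, 0, 1] !![0, 0, 0, 0; 0, 0, 0, 0; 0, 0, 0, 0; 0, 0, 0, 0] !![0, 0, 0, 0; 0, 0, 0, 0; 0, 0, 0, 0; 0, 0, 0, 0] !![1, 0, 0, 0; 0, 1, 0, 0; 0, 0, 1, 0; 0, 1, 0, 1]
theorem r0 : rho (rt (.inl 1) (.inr 3) (by decide) (by decide)) = N0 := (rho_rt _ _ _ _).trans (by decide +kernel)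
def N1 : M8 := Matrix.fromBlocks !![1, 0, 0, 0; 0, 1, 0, 0; 0, 0, 1, 0; 0, 0, 0, 1] !![0, 0, 0, 0; 0, 0, 0, 0; 0, 0, 0, 0; 0, 0, 0, 0] !![0, 0, 0, 0; 0, 0, 0, 0; 0, 0, 0, 2; 0, 0, 1, 0] !![1, 0, 0, 0; 0, 1, 0, 0; 0, 0, 1, 0; 0, 0, 0, 1]
theorem r1 : rho (rt (.inr 2) (.inr 3) (by decide) (by decide)) = N1 := (rho_rt _ _ _ _).trans (by decide +kernel)
def N2 : M8 := Matrix.fromBlocks !![1, 0, 0, 0; 0, 1, 0, 2; 0, 0, 1, 0; 0, 0, 0, 1] !![0, 0, 0, 0; 0, 0, 0, 0; 0, 0, 0, 0; 0, 0, 0, 0] !![0, 0, 0, 0; 0, 0, 0, 0; 0, 0, 0, 2; 0, 0, 1, 0] !![1, 0, 0, 0; 0, 1, 0, 0; 0, 0, 1, 0; 0, 1, 0, 1]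
theorem p2 : N0 * N1 = N2 := by decide +kernel
def N3 : M8 := Matrix.fromBlocks !![1, 2, 0, 0; 0, 1, 0, 0; 0, 0, 1, 0; 0, 0, 0, 1] !![0, 0, 0, 0; 0, 0, 0, 0; 0, 0, 0, 0; 0, 0, 0, 0] !![0, 0, 0, 0; 0, 0, 0, 0; 0, 0, 0, 0; 0, 0, 0, 0] !![1, 0, 0, 0; 1, 1, 0, 0; 0, 0, 1, 0; 0, 0, 0, 1]
theorem r3 : rho (rt (.inl 0) (.inr 1) (by decide) (by decide)) = N3 := (rho_rt _ _ _ _).trans (by decide +kernel)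
def N4 : M8 := Matrix.fromBlocks !![1, 2, 0, 0; 0, 1, 0, 2; 0, 0, 1, 0; 0, 0, 0, 1] !![0, 0, 0, 0; 0, 0, 0, 0; 0, 0, 0, 0; 0, 0, 0, 0] !![0, 0, 0, 0; 0, 0, 0, 0; 0, 0, 0, 2; 0, 0, 1, 0] !![1, 0, 0, 0; 1, 1, 0, 0; 0, 0, 1, 0; 1, 1, 0, 1]
theorem p4 : N2 * N3 = N4 := by decide +kernel
def N5 : M8 := Matrix.fromBlocks !![1, 0, 0, 0; 0, 1, 0, 0; 0, 0, 1, 0; 0, 0, 1, 1] !![0, 0, 0, 0; 0, 0, 0, 0; 0, 0, 0, 0; 0, 0, 0, 0] !![0, 0, 0, 0; 0, 0, 0, 0; 0, 0, 0, 0; 0, 0, 0, 0] !![1, 0, 0, 0; 0, 1, 0, 0; 0, 0, 1, 2; 0, 0, 0, 1]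
theorem r5 : rho (rt (.inr 2) (.inl 3) (by decide) (by decide)) = N5 := (rho_rt _ _ _ _).trans (by decide +kernel)
def N6 : M8 := Matrix.fromBlocks !![1, 2, 0, 0; 0, 1, 2, 2; 0, 0, 1, 0; 0, 0, 1, 1] !![0, 0, 0, 0; 0, 0, 0, 0; 0, 0, 0, 0; 0, 0, 0, 0] !![0, 0, 0, 0; 0, 0, 0, 0; 0, 0, 2, 2; 0, 0, 1, 0] !![1, 0, 0, 0; 1, 1, 0, 0; 0, 0, 1, 2; 1, 1, 0, 1]
theorem p6 : N4 * N5 = N6 := by decide +kernel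
def N7 : M8 := Matrix.fromBlocks !![1, 0, 0, 0; 0, 1, 0, 0; 0, 0, 1, 0; 0, 0, 0, 1] !![0, 0, 0, 0; 0, 0, 0, 0; 0, 0, 0, 1; 0, 0, 2, 0] !![0, 0, 0, 0; 0, 0, 0, 0; 0, 0, 0, 0; 0, 0, 0, 0] !![1, 0, 0, 0; 0, 1, 0, 0; 0, 0, 1, 0; 0, 0, 0, 1]
theorem r7 : rho (rt (.inl 3) (.inl 2) (by decide) (by decide)) = N7 := (rho_rt _ _ _ _).trans (by decide +kernel)
def N8 : M8 := Matrix.fromBlocks !![1, 2, 0, 0; 0, 1, 2, 2; 0, 0, 1, 0; 0, 0, 1, 1] !![0, 0, 0, 0; 0, 0, 1, 2; 0, 0, 0, 1; 0, 0, 2, 1] !![0, 0, 0, 0; 0, 0, 0, 0; 0, 0, 2, 2; 0, 0, 1, 0] !![1, 0, 0, 0; 1, 1, 0, 0; 0, 0, 2, 1; 1, 1, 0, 2]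
theorem p8 : N6 * N7 = N8 := by decide +kernel
def N9 : M8 := Matrix.fromBlocks !![1, 0, 0, 0; 2, 1, 0, 0; 0, 0, 1, 0; 0, 0, 0, 1] !![0, 0, 0, 0; 0, 0, 0, 0; 0, 0, 0, 0; 0, 0, 0, 0] !![0, 0, 0, 0; 0, 0, 0, 0; 0, 0, 0, 0; 0, 0, 0, 0] !![1, 1, 0, 0; 0, 1, 0, 0; 0, 0, 1, 0; 0, 0, 0, 1]
theorem r9 : rho (rt (.inl 1) (.inr 0) (by decide) (by decide)) = N9 := (rho_rt _ _ _ _).trans (by decide +kernel)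
def N10 : M8 := Matrix.fromBlocks !![2, 2, 0, 0; 2, 1, 2, 2; 0, 0, 1, 0; 0, 0, 1, 1] !![0, 0, 0, 0; 0, 0, 1, 2; 0, 0, 0, 1; 0, 0, 2, 1] !![0, 0, 0, 0; 0, 0, 0, 0; 0, 0, 2, 2; 0, 0, 1, 0] !![1, 1, 0, 0; 1, 2, 0, 0; 0, 0, 2, 1; 1, 2, 0, 2]
theorem p10 : N8 * N9 = N10 := by decide +kernel
def N11 : M8 := Matrix.fromBlocks !![1, 0, 0, 0; 0, 1, 0, 0; 0, 0, 1, 0; 0, 0, 0, 1] !![0, 0, 0, 0; 0, 0, 2, 0; 0, 1, 0, 0; 0, 0, 0, 0] !![0, 0, 0, 0; 0, 0, 0, 0; 0, 0, 0, 0; 0, 0, 0, 0] !![1, 0, 0, 0; 0, 1, 0, 0; 0, 0, 1, 0; 0, 0, 0, 1]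
theorem r11 : rho (rt (.inl 1) (.inl 2) (by decide) (by decide)) = N11 := (rho_rt _ _ _ _).trans (by decide +kernel)
def N12 : M8 := Matrix.fromBlocks !![2, 2, 0, 0; 2, 1, 2, 2; 0, 0, 1, 0; 0, 0, 1, 1] !![0, 0, 1, 0; 0, 2, 0, 2; 0, 1, 0, 1; 0, 1, 2, 1] !![0, 0, 0, 0; 0, 0, 0, 0; 0, 0, 2, 2; 0, 0, 1, 0] !![1, 1, 0, 0; 1, 2, 0, 0; 0, 2, 2, 1; 1, 0, 0, 2]
theorem p12 : N10 * N11 = N12 := by decide +kernel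
/-- the element -/
def x : S8 := (rt (.inl 1) (.inr 3) (by decide) (by decide)) * (rt (.inr 2) (.inr 3) (by decide) (by decide)) * (rt (.inl 0) (.inr 1) (by decide) (by decide)) * (rt (.inr 2) (.inl 3) (by decide) (by decide)) * (rt (.inl 3) (.inl 2) (by decide) (by decide)) * (rt (.inl 1) (.inr 0) (by decide) (by decide)) * (rt (.inl 1) (.inl 2) (by decide) (by decide))
theorem rho_x : rho x = N12 := by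
  unfold x
  rw [map_mul, map_mul, map_mul, map_mul, map_mul, map_mul, r0, r1, r3, r5, r7, r9, r11, p2, p4, p6, p8, p10, p12]
def N13 : M8 := Matrix.fromBlocks !![1, 0, 0, 0; 0, 1, 0, 0; 0, 0, 1, 0; 0, 0, 0, 1] !![0, 0, 0, 0; 0, 0, 0, 0; 0, 0, 0, 0; 0, 0, 0, 0] !![0, 2, 0, 0; 1, 0, 0, 0; 0, 0, 0, 0; 0, 0, 0, 0] !![1, 0, 0, 0; 0, 1, 0, 0; 0, 0, 1, 0; 0, 0, 0, 1]
theorem r13 : rho (rt (.inr 0) (.inr 1) (by decide) (by decide)) = N13 := (rho_rt _ _ _ _).trans (by decide +kernel)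
/-- the element -/
def y : S8 := rt (.inr 0) (.inr 1) (by decide) (by decide)
theorem rho_y : rho y = N13 := r13
attribute [irreducible] x y
theorem w14 : N13 ^ 1 = N13 := pow_one _
theorem w15 : N12 ^ 1 = N12 := pow_one _
def N14 : M8 := Matrix.fromBlocks !![2, 2, 0, 0; 2, 1, 2, 2; 0, 0, 1, 0; 0, 0, 1, 1] !![0, 0, 1, 0; 0, 2, 0, 2; 0, 1, 0, 1; 0, 1, 2, 1] !![1, 2, 1, 1; 2, 2, 0, 0; 0, 0, 2, 2; 0, 0, 1, 0] !![1, 2, 0, 1; 1, 2, 1, 0; 0, 2, 2, 1; 1, 0, 0, 2]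
theorem p16 : N13 * N12 = N14 := by decide +kernel
theorem w17 : N14 ^ 1 = N14 := pow_one _
def N15 : M8 := Matrix.fromBlocks !![2, 0, 0, 0; 1, 0, 2, 1; 2, 2, 2, 0; 2, 2, 1, 2] !![0, 0, 1, 2; 1, 1, 2, 1; 2, 0, 1, 0; 2, 2, 1, 0] !![2, 1, 2, 0; 1, 0, 1, 1; 1, 1, 0, 0; 1, 2, 1, 1] !![1, 0, 2, 0; 0, 0, 0, 0; 0, 0, 1, 2; 0, 0, 0, 0]
theorem p18 : N14 * N14 = N15 := by decide +kernel
theorem w19 : N14 ^ 2 = N15 := dbl w17 p18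
def N16 : M8 := Matrix.fromBlocks !![1, 2, 2, 2; 2, 2, 0, 1; 0, 1, 0, 2; 1, 0, 2, 2] !![0, 0, 0, 0; 1, 2, 2, 0; 2, 2, 1, 2; 1, 0, 2, 2] !![1, 1, 2, 1; 0, 1, 0, 2; 0, 2, 1, 0; 2, 1, 1, 1] !![0, 1, 1, 0; 1, 2, 0, 2; 1, 1, 1, 2; 0, 1, 1, 1]
theorem p20 : N15 * N15 = N16 := by decide +kernel
theorem w21 : N14 ^ 4 = N16 := dbl w19 p20
def N17 : M8 := Matrix.fromBlocks !![0, 1, 2, 0; 1, 0, 1, 1; 2, 0, 1, 2; 0, 1, 2, 1] !![0, 2, 2, 2; 0, 0, 1, 2; 0, 2, 2, 2; 0, 1, 0, 2] !![0, 2, 1, 2; 1, 1, 1, 2; 1, 0, 1, 1; 2, 1, 1, 2] !![1, 0, 0, 0; 2, 1, 0, 0; 1, 2, 0, 2; 2, 2, 1, 1]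
theorem p22 : N16 * N14 = N17 := by decide +kernel
theorem w23 : N14 ^ 5 = N17 := suc w21 p22
def N18 : M8 := Matrix.fromBlocks !![1, 1, 0, 0; 1, 1, 2, 2; 1, 2, 0, 2; 1, 1, 2, 0] !![1, 2, 1, 0; 2, 2, 0, 1; 1, 0, 2, 1; 0, 1, 1, 1] !![1, 1, 2, 2; 1, 2, 2, 2; 2, 2, 1, 1; 2, 2, 1, 1] !![1, 1, 1, 1; 1, 1, 2, 1; 0, 2, 0, 2; 0, 2, 2, 0]
theorem p24 : N17 * N17 = N18 := by decide +kernel
theorem w25 : N14 ^ 10 = N18 := dbl w23 p24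
/-- the element -/
def t2 : S8 := (y ^ 1 * x ^ 1) ^ 10
theorem rho_t2 : rho t2 = N18 := by
  unfold t2
  rw [map_pow]
  have h : rho (y ^ 1 * x ^ 1) = N14 := by
    rw [map_mul, map_pow rho y, map_pow rho x, rho_y, rho_x, w14, w15, p16]
  rw [h, w25]
theorem mem_t2 {K : Subgroup T8} (hx : pr x ∈ K) (hy : pr y ∈ K) : pr t2 ∈ K := by
  unfold t2
  rw [map_pow]
  refine K.pow_mem ?_ 10
  rw [map_mul, map_pow pr y, map_pow pr x]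
  exact (K.mul_mem (K.pow_mem hy 1) (K.pow_mem hx 1))
attribute [irreducible] t2
/-- the element -/
def t3 : S8 := (y ^ 1) ^ 1
theorem rho_t3 : rho t3 = N13 := by
  unfold t3
  rw [map_pow]
  have h : rho (y ^ 1) = N13 := by
    rw [map_pow rho y, rho_y, w14]
  rw [h, w14]
theorem mem_t3 {K : Subgroup T8} (hx : pr x ∈ K) (hy : pr y ∈ K) : pr t3 ∈ K := by
  unfold t3
  rw [map_pow]
  refine K.pow_mem ?_ 1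
  rw [map_pow pr y]
  exact (K.pow_mem hy 1)
attribute [irreducible] t3
/-- the element -/
def ya : S8 := (y ^ 1 * x ^ 1) ^ 4
theorem rho_ya : rho ya = N16 := by
  unfold ya
  rw [map_pow]
  have h : rho (y ^ 1 * x ^ 1) = N14 := by
    rw [map_mul, map_pow rho y, map_pow rho x, rho_y, rho_x, w14, w15, p16]
  rw [h, w21]
theorem mem_ya {K : Subgroup T8} (hx : pr x ∈ K) (hy : pr y ∈ K) : pr ya ∈ K := by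
  unfold ya
  rw [map_pow]
  refine K.pow_mem ?_ 4
  rw [map_mul, map_pow pr y, map_pow pr x]
  exact (K.mul_mem (K.pow_mem hy 1) (K.pow_mem hx 1))
attribute [irreducible] ya
def N19 : M8 := Matrix.fromBlocks !![2, 0, 0, 0; 0, 2, 2, 1; 0, 0, 2, 0; 0, 0, 1, 2] !![0, 0, 1, 2; 1, 1, 0, 1; 2, 0, 0, 0; 2, 2, 0, 0] !![0, 0, 0, 0; 0, 0, 0, 0; 0, 0, 0, 0; 0, 0, 0, 0] !![2, 0, 0, 0; 0, 2, 0, 0; 0, 0, 2, 2; 0, 2, 0, 2]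
theorem p26 : N12 * N12 = N19 := by decide +kernel
theorem w27 : N12 ^ 2 = N19 := dbl w15 p26
def N20 : M8 := Matrix.fromBlocks !![1, 0, 0, 0; 0, 1, 0, 1; 0, 0, 1, 0; 0, 0, 1, 1] !![0, 1, 1, 1; 1, 2, 0, 1; 2, 0, 0, 0; 1, 2, 0, 0] !![0, 0, 0, 0; 0, 0, 0, 0; 0, 0, 0, 0; 0, 0, 0, 0] !![1, 0, 0, 0; 0, 1, 0, 0; 0, 1, 1, 2; 0, 2, 0, 1]
theorem p28 : N19 * N19 = N20 := by decide +kernel
theorem w29 : N12 ^ 4 = N20 := dbl w27 p28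
def N21 : M8 := Matrix.fromBlocks !![2, 2, 0, 2; 2, 1, 1, 0; 0, 0, 1, 0; 0, 0, 2, 1] !![2, 1, 0, 0; 1, 2, 2, 2; 2, 0, 0, 1; 0, 1, 2, 2] !![0, 0, 0, 0; 0, 0, 0, 0; 0, 0, 1, 2; 0, 0, 1, 0] !![1, 1, 0, 0; 1, 2, 0, 0; 0, 1, 2, 2; 0, 1, 0, 2]
theorem p30 : N20 * N12 = N21 := by decide +kernel
theorem w31 : N12 ^ 5 = N21 := suc w29 p30
def N22 : M8 := Matrix.fromBlocks !![2, 0, 0, 0; 0, 2, 0, 2; 0, 0, 2, 0; 0, 0, 2, 2] !![0, 0, 2, 2; 1, 1, 0, 2; 1, 0, 0, 0; 2, 1, 0, 0] !![0, 0, 0, 0; 0, 0, 0, 0; 0, 0, 0, 0; 0, 0, 0, 0] !![2, 0, 0, 0; 0, 2, 0, 0; 0, 2, 2, 1; 0, 1, 0, 2]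
theorem p32 : N21 * N21 = N22 := by decide +kernel
theorem w33 : N12 ^ 10 = N22 := dbl w31 p32
def N23 : M8 := Matrix.fromBlocks !![2, 0, 0, 0; 0, 2, 0, 2; 0, 0, 2, 0; 0, 0, 2, 2] !![0, 0, 2, 2; 1, 1, 0, 2; 1, 0, 0, 0; 2, 1, 0, 0] !![0, 1, 0, 1; 2, 0, 0, 0; 0, 0, 0, 0; 0, 0, 0, 0] !![1, 2, 0, 1; 0, 2, 2, 2; 0, 2, 2, 1; 0, 1, 0, 2]
theorem p34 : N13 * N22 = N23 := by decide +kernel
theorem w35 : N23 ^ 1 = N23 := pow_one _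
def N24 : M8 := Matrix.fromBlocks !![1, 0, 0, 0; 2, 2, 1, 0; 0, 1, 1, 1; 2, 2, 2, 0] !![0, 0, 2, 1; 1, 1, 2, 2; 0, 2, 0, 1; 2, 2, 2, 1] !![1, 0, 2, 2; 2, 0, 0, 0; 1, 0, 0, 0; 2, 0, 0, 0] !![1, 0, 1, 0; 0, 1, 0, 2; 0, 0, 2, 2; 0, 1, 2, 0]
theorem p36 : N23 * N23 = N24 := by decide +kernel
theorem w37 : N23 ^ 2 = N24 := dbl w35 p36
def N25 : M8 := Matrix.fromBlocks !![2, 0, 0, 0; 0, 2, 2, 0; 1, 2, 1, 1; 1, 0, 2, 0] !![0, 1, 2, 2; 0, 1, 2, 1; 0, 2, 0, 2; 1, 0, 1, 1] !![1, 0, 2, 1; 2, 0, 0, 0; 1, 0, 0, 0; 0, 0, 0, 0] !![2, 2, 0, 1; 0, 0, 2, 1; 0, 2, 1, 2; 0, 1, 2, 2]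
theorem p38 : N24 * N24 = N25 := by decide +kernel
theorem w39 : N23 ^ 4 = N25 := dbl w37 p38
/-- the element -/
def yb : S8 := (y ^ 1 * x ^ 10) ^ 4
theorem rho_yb : rho yb = N25 := by
  unfold yb
  rw [map_pow]
  have h : rho (y ^ 1 * x ^ 10) = N23 := by
    rw [map_mul, map_pow rho y, map_pow rho x, rho_y, rho_x, w14, w33, p34]
  rw [h, w39]
theorem mem_yb {K : Subgroup T8} (hx : pr x ∈ K) (hy : pr y ∈ K) : pr yb ∈ K := by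
  unfold yb
  rw [map_pow]
  refine K.pow_mem ?_ 4
  rw [map_mul, map_pow pr y, map_pow pr x]
  exact (K.mul_mem (K.pow_mem hy 1) (K.pow_mem hx 10))
attribute [irreducible] yb
def N26 : M8 := Matrix.fromBlocks !![1, 0, 0, 0; 0, 1, 0, 0; 0, 0, 1, 0; 0, 0, 0, 1] !![0, 0, 0, 0; 0, 0, 0, 0; 0, 0, 0, 0; 0, 0, 0, 0] !![0, 1, 0, 0; 2, 0, 0, 0; 0, 0, 0, 0; 0, 0, 0, 0] !![1, 0, 0, 0; 0, 1, 0, 0; 0, 0, 1, 0; 0, 0, 0, 1]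
theorem p40 : N13 * N13 = N26 := by decide +kernel
theorem w41 : N13 ^ 2 = N26 := dbl w14 p40
def N27 : M8 := Matrix.fromBlocks !![1, 1, 1, 2; 1, 2, 2, 2; 0, 0, 2, 0; 0, 0, 0, 2] !![2, 2, 1, 2; 0, 1, 2, 0; 2, 1, 0, 2; 1, 0, 1, 0] !![0, 0, 0, 0; 0, 0, 0, 0; 0, 0, 0, 1; 0, 0, 2, 0] !![2, 2, 0, 0; 2, 1, 0, 0; 2, 1, 1, 0; 1, 1, 0, 1]
theorem p42 : N19 * N12 = N27 := by decide +kernel
theorem w43 : N12 ^ 3 = N27 := suc w27 p42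
def N28 : M8 := Matrix.fromBlocks !![2, 0, 0, 0; 0, 2, 0, 0; 0, 0, 2, 0; 0, 0, 0, 2] !![0, 1, 0, 0; 2, 0, 0, 0; 0, 0, 0, 0; 0, 0, 0, 0] !![0, 0, 0, 0; 0, 0, 0, 0; 0, 0, 0, 0; 0, 0, 0, 0] !![2, 0, 0, 0; 0, 2, 0, 0; 0, 0, 2, 0; 0, 0, 0, 2]
theorem p44 : N27 * N27 = N28 := by decide +kernel
theorem w45 : N12 ^ 6 = N28 := dbl w43 p44
def N29 : M8 := Matrix.fromBlocks !![1, 1, 0, 0; 1, 2, 1, 1; 0, 0, 2, 0; 0, 0, 2, 2] !![1, 2, 2, 0; 2, 0, 0, 1; 0, 2, 0, 2; 0, 2, 1, 2] !![0, 0, 0, 0; 0, 0, 0, 0; 0, 0, 1, 1; 0, 0, 2, 0] !![2, 2, 0, 0; 2, 1, 0, 0; 0, 1, 1, 2; 2, 0, 0, 1]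
theorem p46 : N28 * N12 = N29 := by decide +kernel
theorem w47 : N12 ^ 7 = N29 := suc w45 p46
def N30 : M8 := Matrix.fromBlocks !![2, 0, 0, 0; 0, 2, 2, 1; 0, 0, 2, 0; 0, 0, 1, 2] !![0, 2, 1, 2; 2, 1, 0, 1; 2, 0, 0, 0; 2, 2, 0, 0] !![0, 0, 0, 0; 0, 0, 0, 0; 0, 0, 0, 0; 0, 0, 0, 0] !![2, 0, 0, 0; 0, 2, 0, 0; 0, 0, 2, 2; 0, 2, 0, 2]
theorem p48 : N29 * N29 = N30 := by decide +kernel
theorem w49 : N12 ^ 14 = N30 := dbl w47 p48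
def N31 : M8 := Matrix.fromBlocks !![1, 1, 1, 2; 1, 2, 2, 2; 0, 0, 2, 0; 0, 0, 0, 2] !![1, 0, 1, 2; 1, 2, 2, 0; 2, 1, 0, 2; 1, 0, 1, 0] !![0, 0, 0, 0; 0, 0, 0, 0; 0, 0, 0, 1; 0, 0, 2, 0] !![2, 2, 0, 0; 2, 1, 0, 0; 2, 1, 1, 0; 1, 1, 0, 1]
theorem p50 : N30 * N12 = N31 := by decide +kernel
theorem w51 : N12 ^ 15 = N31 := suc w49 p50
def N32 : M8 := Matrix.fromBlocks !![1, 1, 1, 2; 1, 2, 2, 2; 0, 0, 2, 0; 0, 0, 0, 2] !![1, 0, 1, 2; 1, 2, 2, 0; 2, 1, 0, 2; 1, 0, 1, 0] !![1, 2, 2, 2; 2, 2, 2, 1; 0, 0, 0, 1; 0, 0, 2, 0] !![0, 1, 2, 0; 1, 1, 2, 1; 2, 1, 1, 0; 1, 1, 0, 1]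
theorem p52 : N26 * N31 = N32 := by decide +kernel
theorem w53 : N32 ^ 1 = N32 := pow_one _
def N33 : M8 := Matrix.fromBlocks !![0, 2, 2, 2; 2, 2, 0, 1; 1, 0, 2, 2; 1, 2, 2, 1] !![1, 1, 2, 0; 0, 2, 0, 2; 1, 1, 0, 1; 1, 2, 2, 0] !![2, 1, 2, 1; 1, 1, 1, 0; 1, 0, 0, 2; 0, 1, 1, 0] !![2, 0, 2, 1; 0, 2, 1, 1; 1, 1, 2, 1; 0, 2, 1, 0]
theorem p54 : N32 * N32 = N33 := by decide +kernel
theorem w55 : N32 ^ 2 = N33 := dbl w53 p54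
def N34 : M8 := Matrix.fromBlocks !![1, 1, 2, 1; 1, 2, 1, 1; 1, 0, 2, 0; 1, 2, 0, 2] !![2, 2, 2, 1; 0, 1, 1, 0; 1, 2, 1, 1; 2, 0, 0, 2] !![2, 2, 0, 1; 0, 1, 1, 1; 1, 0, 1, 0; 0, 1, 1, 2] !![2, 0, 0, 2; 0, 2, 1, 0; 1, 2, 2, 1; 2, 2, 1, 0]
theorem p56 : N33 * N33 = N34 := by decide +kernel
theorem w57 : N32 ^ 4 = N34 := dbl w55 p56
/-- the element -/
def z7 : S8 := (y ^ 2 * x ^ 15) ^ 4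
theorem rho_z7 : rho z7 = N34 := by
  unfold z7
  rw [map_pow]
  have h : rho (y ^ 2 * x ^ 15) = N32 := by
    rw [map_mul, map_pow rho y, map_pow rho x, rho_y, rho_x, w41, w51, p52]
  rw [h, w57]
theorem mem_z7 {K : Subgroup T8} (hx : pr x ∈ K) (hy : pr y ∈ K) : pr z7 ∈ K := by
  unfold z7
  rw [map_pow]
  refine K.pow_mem ?_ 4
  rw [map_mul, map_pow pr y, map_pow pr x]
  exact (K.mul_mem (K.pow_mem hy 2) (K.pow_mem hx 15))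
attribute [irreducible] z7
def N35 : M8 := Matrix.fromBlocks !![1, 0, 0, 0; 0, 1, 1, 2; 0, 0, 1, 0; 0, 0, 2, 1] !![0, 2, 2, 1; 0, 2, 0, 2; 1, 0, 0, 0; 1, 1, 0, 0] !![0, 0, 0, 0; 0, 0, 0, 0; 0, 0, 0, 0; 0, 0, 0, 0] !![1, 0, 0, 0; 0, 1, 0, 0; 0, 0, 1, 1; 0, 1, 0, 1]
theorem p58 : N20 * N20 = N35 := by decide +kernel
theorem w59 : N12 ^ 8 = N35 := dbl w29 p58
def N36 : M8 := Matrix.fromBlocks !![1, 0, 0, 0; 0, 1, 1, 2; 0, 0, 1, 0; 0, 0, 2, 1] !![0, 2, 2, 1; 0, 2, 0, 2; 1, 0, 0, 0; 1, 1, 0, 0] !![0, 2, 2, 1; 1, 0, 0, 0; 0, 0, 0, 0; 0, 0, 0, 0] !![1, 1, 0, 1; 0, 0, 2, 1; 0, 0, 1, 1; 0, 1, 0, 1]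
theorem p60 : N13 * N35 = N36 := by decide +kernel
theorem w61 : N36 ^ 1 = N36 := pow_one _
def N37 : M8 := Matrix.fromBlocks !![0, 0, 0, 0; 2, 1, 0, 1; 0, 2, 0, 1; 1, 2, 0, 2] !![0, 0, 2, 0; 0, 0, 1, 0; 2, 1, 0, 1; 1, 2, 2, 2] !![1, 1, 2, 0; 1, 0, 0, 0; 0, 0, 0, 0; 1, 0, 0, 0] !![1, 1, 2, 1; 0, 0, 1, 1; 0, 1, 1, 2; 0, 1, 2, 2]
theorem p62 : N36 * N36 = N37 := by decide +kernel
theorem w63 : N36 ^ 2 = N37 := dbl w61 p62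
/-- the element -/
def z13 : S8 := (y ^ 1 * x ^ 8) ^ 2
theorem rho_z13 : rho z13 = N37 := by
  unfold z13
  rw [map_pow]
  have h : rho (y ^ 1 * x ^ 8) = N36 := by
    rw [map_mul, map_pow rho y, map_pow rho x, rho_y, rho_x, w14, w59, p60]
  rw [h, w63]
theorem mem_z13 {K : Subgroup T8} (hx : pr x ∈ K) (hy : pr y ∈ K) : pr z13 ∈ K := by
  unfold z13
  rw [map_pow]
  refine K.pow_mem ?_ 2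
  rw [map_mul, map_pow pr y, map_pow pr x]
  exact (K.mul_mem (K.pow_mem hy 1) (K.pow_mem hx 8))
attribute [irreducible] z13
theorem o_t2 : (rho t2 ^ 2 = 1 ∨ rho t2 ^ 2 = -1) ∧ rho t2 ≠ 1 ∧ rho t2 ≠ -1 := by
  rw [rho_t2, pow_two]
  exact ⟨Or.inl (by decide +kernel), by decide +kernel, by decide +kernel⟩
theorem p64 : N26 * N13 = 1 := by decide +kernel
theorem w65 : N13 ^ 3 = 1 := suc w41 p64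
theorem o_t3 : rho t3 ^ 3 = 1 ∧ rho t3 ≠ 1 := by
  rw [rho_t3]
  exact ⟨w65, by decide +kernel⟩
theorem w66 : N16 ^ 1 = N16 := pow_one _
def N38 : M8 := Matrix.fromBlocks !![1, 2, 0, 0; 2, 0, 1, 1; 1, 1, 2, 1; 2, 2, 0, 1] !![2, 2, 1, 2; 1, 2, 0, 1; 0, 2, 2, 0; 2, 0, 2, 2] !![1, 0, 2, 2; 0, 1, 2, 0; 0, 2, 2, 0; 1, 2, 2, 0] !![2, 0, 1, 1; 2, 0, 0, 1; 0, 0, 0, 2; 0, 2, 1, 0]
theorem p67 : N16 * N16 = N38 := by decide +kernel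
theorem w68 : N16 ^ 2 = N38 := dbl w66 p67
def N39 : M8 := Matrix.fromBlocks !![0, 1, 1, 0; 1, 2, 1, 1; 1, 0, 1, 1; 0, 2, 2, 1] !![0, 1, 2, 1; 0, 2, 2, 0; 0, 2, 1, 2; 0, 0, 2, 2] !![1, 0, 0, 2; 1, 1, 2, 1; 2, 0, 1, 1; 1, 2, 0, 1] !![1, 2, 0, 1; 2, 2, 1, 0; 2, 0, 0, 2; 2, 1, 2, 2]
theorem p69 : N38 * N38 = N39 := by decide +kernel
theorem w70 : N16 ^ 4 = N39 := dbl w68 p69
theorem p71 : N39 * N16 = 1 := by decide +kernel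
theorem w72 : N16 ^ 5 = 1 := suc w70 p71
theorem o_ya : rho ya ^ 5 = 1 ∧ rho ya ≠ 1 := by
  rw [rho_ya]
  exact ⟨w72, by decide +kernel⟩
theorem w73 : N25 ^ 1 = N25 := pow_one _
def N40 : M8 := Matrix.fromBlocks !![2, 0, 0, 0; 0, 2, 0, 2; 2, 0, 1, 1; 0, 1, 1, 0] !![0, 2, 0, 1; 0, 2, 1, 1; 1, 1, 0, 1; 2, 1, 2, 2] !![2, 1, 2, 1; 0, 0, 0, 0; 1, 0, 0, 0; 1, 0, 0, 0] !![2, 1, 0, 1; 0, 1, 2, 1; 0, 2, 2, 1; 0, 0, 2, 0]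
theorem p74 : N25 * N25 = N40 := by decide +kernel
theorem w75 : N25 ^ 2 = N40 := dbl w73 p74
def N41 : M8 := Matrix.fromBlocks !![2, 0, 0, 0; 2, 0, 2, 1; 0, 2, 1, 2; 1, 1, 2, 2] !![0, 0, 0, 1; 1, 1, 2, 0; 2, 2, 0, 1; 2, 1, 2, 1] !![1, 2, 1, 0; 0, 0, 0, 0; 2, 0, 0, 0; 1, 0, 0, 0] !![2, 0, 1, 1; 0, 2, 2, 0; 0, 2, 1, 2; 0, 0, 1, 0]
theorem p76 : N40 * N40 = N41 := by decide +kernel
theorem w77 : N25 ^ 4 = N41 := dbl w75 p76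
theorem p78 : N41 * N25 = 1 := by decide +kernel
theorem w79 : N25 ^ 5 = 1 := suc w77 p78
theorem o_yb : rho yb ^ 5 = 1 ∧ rho yb ≠ 1 := by
  rw [rho_yb]
  exact ⟨w79, by decide +kernel⟩
theorem w80 : N34 ^ 1 = N34 := pow_one _
def N42 : M8 := Matrix.fromBlocks !![2, 0, 0, 1; 0, 2, 2, 0; 0, 0, 1, 0; 0, 0, 0, 1] !![2, 2, 0, 2; 0, 1, 2, 2; 0, 2, 0, 0; 2, 2, 0, 0] !![0, 2, 2, 0; 1, 0, 0, 2; 0, 0, 0, 0; 0, 0, 0, 0] !![2, 1, 2, 2; 1, 0, 0, 1; 0, 2, 1, 0; 1, 0, 0, 1]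
theorem p81 : N34 * N34 = N42 := by decide +kernel
theorem w82 : N34 ^ 2 = N42 := dbl w80 p81
def N43 : M8 := Matrix.fromBlocks !![1, 0, 2, 0; 0, 1, 2, 1; 1, 2, 1, 2; 2, 2, 2, 0] !![2, 0, 2, 2; 2, 1, 2, 1; 1, 0, 0, 1; 0, 1, 2, 0] !![1, 2, 2, 0; 2, 2, 0, 2; 1, 2, 0, 2; 2, 0, 1, 0] !![0, 1, 2, 2; 1, 1, 0, 1; 1, 0, 1, 1; 1, 2, 1, 2]
theorem p83 : N42 * N34 = N43 := by decide +kernel
theorem w84 : N34 ^ 3 = N43 := suc w82 p83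
def N44 : M8 := Matrix.fromBlocks !![2, 0, 1, 2; 0, 2, 2, 2; 0, 1, 2, 1; 2, 0, 1, 0] !![2, 0, 1, 2; 2, 1, 2, 0; 2, 1, 1, 0; 1, 0, 1, 2] !![2, 0, 1, 0; 2, 1, 0, 1; 0, 1, 1, 1; 1, 1, 0, 2] !![1, 1, 1, 1; 1, 2, 0, 2; 2, 1, 2, 0; 1, 1, 0, 2]
theorem p85 : N43 * N43 = N44 := by decide +kernel
theorem w86 : N34 ^ 6 = N44 := dbl w84 p85
theorem p87 : N44 * N34 = 1 := by decide +kernel
theorem w88 : N34 ^ 7 = 1 := suc w86 p87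
theorem o_z7 : rho z7 ^ 7 = 1 ∧ rho z7 ≠ 1 := by
  rw [rho_z7]
  exact ⟨w88, by decide +kernel⟩
theorem w89 : N37 ^ 1 = N37 := pow_one _
def N45 : M8 := Matrix.fromBlocks !![0, 0, 0, 0; 0, 0, 0, 0; 0, 0, 1, 1; 2, 1, 2, 0] !![0, 2, 2, 1; 1, 0, 2, 1; 0, 2, 2, 1; 0, 0, 0, 0] !![2, 0, 2, 0; 1, 0, 0, 0; 0, 0, 0, 0; 0, 0, 0, 0] !![2, 0, 1, 1; 0, 2, 2, 1; 0, 0, 0, 1; 0, 1, 0, 0]
theorem p90 : N37 * N37 = N45 := by decide +kernel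
theorem w91 : N37 ^ 2 = N45 := dbl w89 p90
def N46 : M8 := Matrix.fromBlocks !![0, 0, 0, 0; 2, 1, 2, 0; 1, 1, 0, 0; 2, 2, 0, 0] !![0, 0, 0, 2; 1, 1, 0, 1; 0, 0, 2, 2; 1, 2, 2, 2] !![0, 0, 1, 2; 0, 0, 0, 0; 1, 0, 0, 0; 1, 0, 0, 0] !![0, 0, 2, 2; 0, 0, 2, 2; 0, 1, 2, 2; 0, 0, 1, 1]
theorem p92 : N45 * N37 = N46 := by decide +kernel
theorem w93 : N37 ^ 3 = N46 := suc w91 p92
def N47 : M8 := Matrix.fromBlocks !![2, 0, 0, 0; 2, 0, 0, 2; 0, 1, 2, 0; 2, 2, 2, 2] !![0, 0, 2, 2; 1, 1, 0, 2; 1, 0, 0, 0; 2, 1, 0, 0] !![0, 2, 0, 0; 1, 0, 0, 0; 1, 0, 0, 0; 2, 0, 0, 0] !![2, 0, 0, 0; 0, 2, 0, 0; 0, 2, 2, 1; 0, 1, 0, 2]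
theorem p94 : N46 * N46 = N47 := by decide +kernel
theorem w95 : N37 ^ 6 = N47 := dbl w93 p94
def N48 : M8 := Matrix.fromBlocks !![1, 0, 0, 0; 1, 0, 1, 1; 2, 1, 1, 2; 1, 1, 2, 2] !![0, 0, 2, 1; 0, 0, 1, 2; 2, 1, 0, 2; 0, 0, 1, 2] !![1, 1, 0, 1; 1, 0, 0, 0; 2, 0, 0, 0; 0, 0, 0, 0] !![0, 2, 0, 1; 0, 1, 2, 2; 0, 0, 0, 0; 0, 1, 1, 2]
theorem p96 : N47 * N47 = N48 := by decide +kernel
theorem w97 : N37 ^ 12 = N48 := dbl w95 p96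
theorem p98 : N48 * N37 = 1 := by decide +kernel
theorem w99 : N37 ^ 13 = 1 := suc w97 p98
theorem o_z13 : rho z13 ^ 13 = 1 ∧ rho z13 ≠ 1 := by
  rw [rho_z13]
  exact ⟨w99, by decide +kernel⟩
theorem f_ya : ∃ v : I8 → R3, (rho ya).mulVec v = v ∧ v ≠ 0 := by
  rw [rho_ya]
  exact ⟨Sum.elim ![0, 0, 0, 0] ![0, 1, 2, 1], by decide +kernel, by decide +kernel⟩
def N49 : M8 := Matrix.fromBlocks !![2, 0, 0, 0; 1, 1, 2, 0; 0, 2, 2, 2; 1, 1, 1, 0] !![0, 0, 1, 2; 2, 2, 1, 1; 0, 1, 0, 2; 1, 1, 1, 2] !![2, 0, 1, 1; 1, 0, 0, 0; 2, 0, 0, 0; 1, 0, 0, 0] !![2, 0, 2, 0; 0, 2, 0, 1; 0, 0, 1, 1; 0, 2, 1, 0]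
theorem p100 : N40 * N25 = N49 := by decide +kernel
theorem w101 : N25 ^ 3 = N49 := suc w75 p100
theorem f_yb : rho yb ^ 4 + rho yb ^ 3 + rho yb ^ 2 + rho yb + 1 = 0 := by
  rw [rho_yb, w77, w101, w75]
  decide +kernel
/-- **the certificate** -/
theorem top (OT : OrdDiv.OrderTable.{0})
    (hS : ∀ (X : Type) [Group X] [Finite X] [IsSimpleGroup X], Cfsg.IsKnownSimple' X)
    {K : Subgroup T8} (hx : pr x ∈ K) (hy : pr y ∈ K) : K = ⊤ :=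
  top_of OT hS ⟨mem_t2 hx hy, o_t2, mem_t3 hx hy, o_t3, mem_ya hx hy, o_ya, f_ya, mem_yb hx hy, o_yb, f_yb, mem_z7 hx hy, o_z7,
    mem_z13 hx hy, o_z13⟩
def N50 : M8 := Matrix.fromBlocks !![1, 0, 0, 0; 0, 1, 0, 0; 0, 0, 1, 0; 0, 0, 0, 1] !![0, 1, 0, 0; 2, 0, 0, 0; 0, 0, 0, 0; 0, 0, 0, 0] !![0, 0, 0, 0; 0, 0, 0, 0; 0, 0, 0, 0; 0, 0, 0, 0] !![1, 0, 0, 0; 0, 1, 0, 0; 0, 0, 1, 0; 0, 0, 0, 1]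
theorem p102 : N28 * N28 = N50 := by decide +kernel
theorem w103 : N12 ^ 12 = N50 := dbl w45 p102
def N51 : M8 := Matrix.fromBlocks !![1, 0, 0, 0; 0, 1, 0, 0; 0, 0, 1, 0; 0, 0, 0, 1] !![0, 2, 0, 0; 1, 0, 0, 0; 0, 0, 0, 0; 0, 0, 0, 0] !![0, 0, 0, 0; 0, 0, 0, 0; 0, 0, 0, 0; 0, 0, 0, 0] !![1, 0, 0, 0; 0, 1, 0, 0; 0, 0, 1, 0; 0, 0, 0, 1]
theorem p104 : N50 * N50 = N51 := by decide +kernel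
theorem w105 : N12 ^ 24 = N51 := dbl w103 p104
theorem r106 : rho (rt (.inl 0) (.inl 1) (by decide) (by decide)) = N51 := (rho_rt _ _ _ _).trans (by decide +kernel)
theorem x_pow : x ^ 24 = rt (.inl 0) (.inl 1) (by decide) (by decide) := by
  apply rho_injective
  rw [map_pow, rho_x, w105, r106]

end Cfsg.Agent.H304.Spr.Opp
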