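import Cfsg.Agent.H304.Spr.Base

/-!
# S3938, `PΩ⁺₈(3)`: reflection certificate (helper304)

generated by a script
-/

set_option autoImplicit false
set_option maxRecDepth 100000

namespace Cfsg.Agent.H304.Spr.Rfl

open Subgroup Cfsg Cfsg.Agent Cfsg.Agent.H503.El.O83 Cfsg.Agent.H938.Sax Matrix

theorem dbl {A B C : M8} {k : ℕ} (h : A ^ k = B) (h2 : B * B = C) : A ^ (k + k) = C := by rw [pow_add, h, h2]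

theorem suc {A B C : M8} {k : ℕ} (h : A ^ k = B) (h2 : B * A = C) : A ^ (k + 1) = C := by rw [pow_succ, h, h2]

def N0 : M8 := Matrix.fromBlocks !![1, 0, 0, 0; 0, 1, 0, 0; 0, 0, 1, 0; 0, 0, 0, 1] !![0, 0, 0, 0; 0, 0, 0, 0; 0, 0, 0, 0; 0, 0, 0, 0] !![0, 0, 0, 2; 0, 0, 0, 0; 0, 0, 0, 0; 1, 0, 0, 0] !![1, 0, 0, 0; 0, 1, 0, 0; 0, 0, 1, 0; 0, 0, 0, 1]
theorem r0 : rho (rt (.inr 0) (.inr 3) (by decide) (by decide)) = N0 := (rho_rt _ _ _ _).trans (by decide +kernel)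
def N1 : M8 := Matrix.fromBlocks !![1, 0, 0, 0; 0, 1, 0, 0; 0, 0, 1, 0; 0, 0, 0, 1] !![0, 0, 2, 0; 0, 0, 0, 0; 1, 0, 0, 0; 0, 0, 0, 0] !![0, 0, 0, 0; 0, 0, 0, 0; 0, 0, 0, 0; 0, 0, 0, 0] !![1, 0, 0, 0; 0, 1, 0, 0; 0, 0, 1, 0; 0, 0, 0, 1]
theorem r1 : rho (rt (.inl 0) (.inl 2) (by decide) (by decide)) = N1 := (rho_rt _ _ _ _).trans (by decide +kernel)
def N2 : M8 := Matrix.fromBlocks !![1, 0, 0, 0; 0, 1, 0, 0; 0, 0, 1, 0; 0, 0, 0, 1] !![0, 0, 2, 0; 0, 0, 0, 0; 1, 0, 0, 0; 0, 0, 0, 0] !![0, 0, 0, 2; 0, 0, 0, 0; 0, 0, 0, 0; 1, 0, 0, 0] !![1, 0, 0, 0; 0, 1, 0, 0; 0, 0, 1, 0; 0, 0, 2, 1]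
theorem p2 : N0 * N1 = N2 := by decide +kernel
def N3 : M8 := Matrix.fromBlocks !![1, 0, 0, 0; 0, 1, 0, 0; 0, 0, 1, 0; 0, 0, 0, 1] !![0, 0, 0, 0; 0, 0, 0, 0; 0, 0, 0, 0; 0, 0, 0, 0] !![0, 0, 0, 0; 0, 0, 2, 0; 0, 1, 0, 0; 0, 0, 0, 0] !![1, 0, 0, 0; 0, 1, 0, 0; 0, 0, 1, 0; 0, 0, 0, 1]
theorem r3 : rho (rt (.inr 1) (.inr 2) (by decide) (by decide)) = N3 := (rho_rt _ _ _ _).trans (by decide +kernel)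
def N4 : M8 := Matrix.fromBlocks !![1, 2, 0, 0; 0, 1, 0, 0; 0, 0, 1, 0; 0, 0, 0, 1] !![0, 0, 2, 0; 0, 0, 0, 0; 1, 0, 0, 0; 0, 0, 0, 0] !![0, 0, 0, 2; 0, 0, 2, 0; 0, 1, 0, 0; 1, 2, 0, 0] !![1, 0, 0, 0; 0, 1, 0, 0; 0, 0, 1, 0; 0, 0, 2, 1]
theorem p4 : N2 * N3 = N4 := by decide +kernel
def N5 : M8 := Matrix.fromBlocks !![1, 0, 0, 0; 0, 1, 0, 0; 0, 0, 1, 0; 0, 0, 0, 1] !![0, 0, 0, 0; 0, 0, 0, 2; 0, 0, 0, 0; 0, 1, 0, 0] !![0, 0, 0, 0; 0, 0, 0, 0; 0, 0, 0, 0; 0, 0, 0, 0] !![1, 0, 0, 0; 0, 1, 0, 0; 0, 0, 1, 0; 0, 0, 0, 1]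
theorem r5 : rho (rt (.inl 1) (.inl 3) (by decide) (by decide)) = N5 := (rho_rt _ _ _ _).trans (by decide +kernel)
def N6 : M8 := Matrix.fromBlocks !![1, 2, 0, 0; 0, 1, 0, 0; 0, 0, 1, 0; 0, 0, 0, 1] !![0, 0, 2, 1; 0, 0, 0, 2; 1, 0, 0, 0; 0, 1, 0, 0] !![0, 0, 0, 2; 0, 0, 2, 0; 0, 1, 0, 0; 1, 2, 0, 0] !![1, 2, 0, 0; 0, 1, 0, 0; 0, 0, 1, 2; 0, 0, 2, 2]
theorem p6 : N4 * N5 = N6 := by decide +kernel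
/-- the element -/
def x : S8 := (rt (.inr 0) (.inr 3) (by decide) (by decide)) * (rt (.inl 0) (.inl 2) (by decide) (by decide)) * (rt (.inr 1) (.inr 2) (by decide) (by decide)) * (rt (.inl 1) (.inl 3) (by decide) (by decide))
theorem rho_x : rho x = N6 := by
  unfold x
  rw [map_mul, map_mul, map_mul, r0, r1, r3, r5, p2, p4, p6]
def N7 : M8 := Matrix.fromBlocks !![1, 0, 0, 2; 0, 1, 0, 0; 0, 0, 1, 0; 0, 0, 0, 1] !![0, 0, 0, 0; 0, 0, 0, 0; 0, 0, 0, 0; 0, 0, 0, 0] !![0, 0, 0, 0; 0, 0, 0, 0; 0, 0, 0, 0; 0, 0, 0, 0] !![1, 0, 0, 0; 0, 1, 0, 0; 0, 0, 1, 0; 1, 0, 0, 1]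
theorem r7 : rho (rt (.inl 0) (.inr 3) (by decide) (by decide)) = N7 := (rho_rt _ _ _ _).trans (by decide +kernel)
def N8 : M8 := Matrix.fromBlocks !![1, 0, 0, 0; 0, 1, 0, 0; 1, 0, 1, 0; 0, 0, 0, 1] !![0, 0, 0, 0; 0, 0, 0, 0; 0, 0, 0, 0; 0, 0, 0, 0] !![0, 0, 0, 0; 0, 0, 0, 0; 0, 0, 0, 0; 0, 0, 0, 0] !![1, 0, 2, 0; 0, 1, 0, 0; 0, 0, 1, 0; 0, 0, 0, 1]
theorem r8 : rho (rt (.inr 0) (.inl 2) (by decide) (by decide)) = N8 := (rho_rt _ _ _ _).trans (by decide +kernel)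
def N9 : M8 := Matrix.fromBlocks !![1, 0, 0, 2; 0, 1, 0, 0; 1, 0, 1, 0; 0, 0, 0, 1] !![0, 0, 0, 0; 0, 0, 0, 0; 0, 0, 0, 0; 0, 0, 0, 0] !![0, 0, 0, 0; 0, 0, 0, 0; 0, 0, 0, 0; 0, 0, 0, 0] !![1, 0, 2, 0; 0, 1, 0, 0; 0, 0, 1, 0; 1, 0, 2, 1]
theorem p9 : N7 * N8 = N9 := by decide +kernel
def N10 : M8 := Matrix.fromBlocks !![1, 0, 0, 2; 0, 1, 0, 0; 1, 0, 1, 0; 0, 0, 0, 1] !![0, 0, 0, 0; 0, 0, 0, 0; 0, 0, 0, 0; 0, 0, 0, 0] !![0, 2, 0, 0; 0, 0, 2, 0; 0, 1, 0, 0; 0, 2, 0, 0] !![1, 0, 2, 0; 0, 1, 0, 0; 0, 0, 1, 0; 1, 0, 2, 1]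
theorem p10 : N9 * N3 = N10 := by decide +kernel
def N11 : M8 := Matrix.fromBlocks !![1, 0, 0, 2; 0, 1, 0, 0; 1, 0, 1, 0; 0, 0, 0, 1] !![0, 2, 0, 0; 0, 0, 0, 2; 0, 0, 0, 0; 0, 1, 0, 0] !![0, 2, 0, 0; 0, 0, 2, 0; 0, 1, 0, 0; 0, 2, 0, 0] !![1, 0, 2, 1; 0, 1, 0, 0; 0, 0, 1, 2; 1, 0, 2, 2]
theorem p11 : N10 * N5 = N11 := by decide +kernel
/-- the element -/
def y : S8 := (rt (.inl 0) (.inr 3) (by decide) (by decide)) * (rt (.inr 0) (.inl 2) (by decide) (by decide)) * (rt (.inr 1) (.inr 2) (by decide) (by decide)) * (rt (.inl 1) (.inl 3) (by decide) (by decide))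
theorem rho_y : rho y = N11 := by
  unfold y
  rw [map_mul, map_mul, map_mul, r7, r8, r3, r5, p9, p10, p11]
attribute [irreducible] x y
theorem w12 : N6 ^ 1 = N6 := pow_one _
def N12 : M8 := Matrix.fromBlocks !![2, 2, 0, 0; 2, 2, 0, 0; 0, 0, 1, 2; 0, 0, 2, 1] !![0, 0, 0, 2; 0, 0, 1, 0; 2, 2, 0, 0; 0, 2, 0, 0] !![0, 0, 1, 1; 0, 0, 1, 0; 2, 0, 0, 0; 0, 1, 0, 0] !![1, 0, 0, 0; 2, 1, 0, 0; 0, 0, 2, 2; 0, 0, 2, 1]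
theorem p13 : N6 * N6 = N12 := by decide +kernel
theorem w14 : N6 ^ 2 = N12 := dbl w12 p13
def N13 : M8 := Matrix.fromBlocks !![2, 1, 0, 0; 1, 2, 0, 0; 0, 0, 0, 0; 0, 0, 0, 2] !![0, 0, 0, 0; 0, 0, 1, 0; 2, 2, 0, 0; 2, 2, 0, 0] !![0, 0, 1, 1; 0, 0, 1, 1; 2, 0, 0, 0; 0, 0, 0, 0] !![0, 1, 0, 0; 0, 0, 0, 0; 0, 0, 2, 1; 0, 0, 1, 2]
theorem p15 : N12 * N12 = N13 := by decide +kernel
theorem w16 : N6 ^ 4 = N13 := dbl w14 p15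
def N14 : M8 := Matrix.fromBlocks !![2, 2, 0, 0; 1, 2, 0, 0; 0, 0, 1, 1; 0, 0, 1, 0] !![0, 0, 1, 1; 0, 0, 0, 1; 2, 0, 0, 0; 2, 2, 0, 0] !![0, 0, 0, 1; 0, 0, 1, 1; 0, 2, 0, 0; 2, 2, 0, 0] !![1, 2, 0, 0; 1, 1, 0, 0; 0, 0, 2, 2; 0, 0, 2, 0]
theorem p17 : N13 * N6 = N14 := by decide +kernel
theorem w18 : N6 ^ 5 = N14 := suc w16 p17
/-- the element -/
def t2 : S8 := (x ^ 1) ^ 5
theorem rho_t2 : rho t2 = N14 := by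
  unfold t2
  rw [map_pow]
  have h : rho (x ^ 1) = N6 := by
    rw [map_pow rho x, rho_x, w12]
  rw [h, w18]
theorem mem_t2 {K : Subgroup T8} (hx : pr x ∈ K) (hy : pr y ∈ K) : pr t2 ∈ K := by
  unfold t2
  rw [map_pow]
  refine K.pow_mem ?_ 5
  rw [map_pow pr x]
  exact (K.pow_mem hx 1)
attribute [irreducible] t2
theorem w19 : N11 ^ 1 = N11 := pow_one _
def N15 : M8 := Matrix.fromBlocks !![1, 0, 0, 2; 0, 2, 0, 0; 1, 2, 1, 0; 0, 0, 2, 1] !![1, 2, 1, 1; 2, 0, 1, 0; 1, 0, 2, 1; 0, 2, 0, 0] !![0, 2, 1, 2; 2, 0, 1, 0; 0, 0, 0, 0; 1, 2, 0, 2] !![1, 1, 2, 1; 0, 1, 0, 0; 2, 0, 2, 2; 2, 2, 0, 0]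
theorem p20 : N6 * N11 = N15 := by decide +kernel
theorem w21 : N15 ^ 1 = N15 := pow_one _
def N16 : M8 := Matrix.fromBlocks !![0, 1, 1, 2; 0, 2, 2, 1; 0, 1, 2, 0; 0, 1, 0, 1] !![0, 2, 2, 1; 2, 2, 2, 1; 1, 2, 2, 1; 2, 1, 1, 2] !![1, 1, 1, 0; 2, 2, 2, 1; 2, 2, 2, 2; 2, 2, 2, 2] !![0, 2, 1, 0; 0, 2, 1, 0; 1, 0, 2, 0; 1, 1, 1, 0]
theorem p22 : N15 * N15 = N16 := by decide +kernel
theorem w23 : N15 ^ 2 = N16 := dbl w21 p22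
def N17 : M8 := Matrix.fromBlocks !![1, 0, 2, 2; 0, 1, 2, 2; 2, 0, 2, 0; 1, 1, 0, 0] !![1, 2, 1, 0; 2, 0, 0, 0; 1, 1, 2, 0; 1, 2, 1, 0] !![0, 1, 2, 1; 0, 0, 1, 2; 2, 0, 0, 0; 2, 0, 0, 2] !![1, 1, 1, 0; 0, 2, 2, 2; 0, 1, 1, 1; 2, 0, 0, 1]
theorem p24 : N16 * N16 = N17 := by decide +kernel
theorem w25 : N15 ^ 4 = N17 := dbl w23 p24
def N18 : M8 := Matrix.fromBlocks !![1, 0, 0, 0; 2, 1, 2, 0; 0, 0, 1, 0; 2, 1, 0, 1] !![0, 0, 0, 0; 0, 0, 0, 1; 0, 0, 0, 0; 0, 2, 0, 1] !![1, 2, 0, 0; 1, 0, 1, 0; 2, 2, 1, 0; 0, 0, 0, 0] !![1, 1, 0, 2; 0, 1, 0, 2; 0, 1, 1, 1; 0, 0, 0, 1]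
theorem p26 : N17 * N15 = N18 := by decide +kernel
theorem w27 : N15 ^ 5 = N18 := suc w25 p26
/-- the element -/
def t3 : S8 := (x ^ 1 * y ^ 1) ^ 5
theorem rho_t3 : rho t3 = N18 := by
  unfold t3
  rw [map_pow]
  have h : rho (x ^ 1 * y ^ 1) = N15 := by
    rw [map_mul, map_pow rho x, map_pow rho y, rho_x, rho_y, w12, w19, p20]
  rw [h, w27]
theorem mem_t3 {K : Subgroup T8} (hx : pr x ∈ K) (hy : pr y ∈ K) : pr t3 ∈ K := by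
  unfold t3
  rw [map_pow]
  refine K.pow_mem ?_ 5
  rw [map_mul, map_pow pr x, map_pow pr y]
  exact (K.mul_mem (K.pow_mem hx 1) (K.pow_mem hy 1))
attribute [irreducible] t3
def N19 : M8 := Matrix.fromBlocks !![0, 0, 1, 1; 1, 2, 2, 1; 1, 1, 2, 1; 1, 1, 2, 0] !![0, 2, 1, 2; 2, 2, 2, 2; 2, 2, 2, 1; 1, 0, 1, 1] !![0, 1, 0, 2; 2, 2, 0, 2; 1, 1, 1, 2; 0, 1, 2, 2] !![0, 1, 0, 1; 1, 2, 1, 0; 1, 0, 2, 0; 2, 1, 0, 1]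
theorem p28 : N16 * N15 = N19 := by decide +kernel
theorem w29 : N15 ^ 3 = N19 := suc w23 p28
/-- the element -/
def ya : S8 := (x ^ 1 * y ^ 1) ^ 3
theorem rho_ya : rho ya = N19 := by
  unfold ya
  rw [map_pow]
  have h : rho (x ^ 1 * y ^ 1) = N15 := by
    rw [map_mul, map_pow rho x, map_pow rho y, rho_x, rho_y, w12, w19, p20]
  rw [h, w29]
theorem mem_ya {K : Subgroup T8} (hx : pr x ∈ K) (hy : pr y ∈ K) : pr ya ∈ K := by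
  unfold ya
  rw [map_pow]
  refine K.pow_mem ?_ 3
  rw [map_mul, map_pow pr x, map_pow pr y]
  exact (K.mul_mem (K.pow_mem hx 1) (K.pow_mem hy 1))
attribute [irreducible] ya
/-- the element -/
def yb : S8 := (x ^ 1) ^ 4
theorem rho_yb : rho yb = N13 := by
  unfold yb
  rw [map_pow]
  have h : rho (x ^ 1) = N6 := by
    rw [map_pow rho x, rho_x, w12]
  rw [h, w16]
theorem mem_yb {K : Subgroup T8} (hx : pr x ∈ K) (hy : pr y ∈ K) : pr yb ∈ K := by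
  unfold yb
  rw [map_pow]
  refine K.pow_mem ?_ 4
  rw [map_pow pr x]
  exact (K.pow_mem hx 1)
attribute [irreducible] yb
def N20 : M8 := Matrix.fromBlocks !![1, 0, 1, 1; 0, 2, 0, 0; 2, 0, 1, 2; 0, 0, 2, 1] !![0, 0, 0, 0; 2, 0, 1, 0; 0, 2, 0, 0; 0, 2, 0, 0] !![0, 2, 0, 0; 2, 0, 1, 0; 0, 0, 0, 0; 0, 1, 0, 0] !![2, 0, 0, 2; 0, 1, 0, 0; 2, 0, 2, 2; 0, 0, 2, 1]
theorem p30 : N11 * N11 = N20 := by decide +kernel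
theorem w31 : N11 ^ 2 = N20 := dbl w19 p30
def N21 : M8 := Matrix.fromBlocks !![2, 0, 1, 0; 0, 1, 0, 0; 0, 0, 2, 0; 2, 0, 0, 1] !![0, 0, 0, 0; 2, 0, 2, 2; 0, 2, 0, 0; 0, 0, 0, 0] !![0, 1, 0, 0; 0, 0, 0, 1; 0, 1, 0, 0; 0, 2, 0, 0] !![1, 0, 2, 1; 0, 2, 0, 0; 1, 0, 1, 1; 1, 0, 1, 2]
theorem p32 : N20 * N11 = N21 := by decide +kernel
theorem w33 : N11 ^ 3 = N21 := suc w31 p32
def N22 : M8 := Matrix.fromBlocks !![1, 2, 2, 0; 2, 1, 1, 0; 2, 2, 2, 1; 0, 2, 2, 2] !![0, 0, 0, 1; 2, 0, 2, 0; 2, 2, 1, 2; 2, 0, 1, 2] !![2, 1, 0, 0; 2, 1, 2, 2; 0, 2, 0, 0; 1, 1, 2, 0] !![1, 1, 2, 1; 1, 1, 2, 1; 2, 0, 2, 1; 0, 0, 0, 0]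
theorem p34 : N14 * N21 = N22 := by decide +kernel
theorem w35 : N22 ^ 1 = N22 := pow_one _
def N23 : M8 := Matrix.fromBlocks !![1, 0, 1, 2; 1, 1, 1, 1; 2, 2, 2, 2; 2, 1, 2, 0] !![2, 1, 0, 2; 1, 1, 2, 2; 1, 2, 2, 1; 1, 0, 2, 2] !![0, 0, 0, 2; 1, 2, 2, 2; 0, 0, 1, 0; 1, 1, 1, 2] !![2, 2, 1, 0; 1, 0, 2, 2; 1, 2, 0, 1; 0, 1, 1, 2]
theorem p36 : N22 * N22 = N23 := by decide +kernel
theorem w37 : N22 ^ 2 = N23 := dbl w35 p36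
def N24 : M8 := Matrix.fromBlocks !![1, 2, 2, 2; 0, 2, 0, 1; 0, 1, 1, 0; 0, 1, 2, 0] !![1, 0, 0, 1; 1, 0, 2, 0; 1, 0, 0, 1; 2, 0, 0, 2] !![0, 0, 0, 2; 1, 1, 0, 2; 2, 1, 1, 1; 2, 0, 1, 2] !![0, 0, 1, 0; 0, 0, 0, 0; 2, 2, 2, 1; 2, 2, 0, 1]
theorem p38 : N23 * N23 = N24 := by decide +kernel
theorem w39 : N22 ^ 4 = N24 := dbl w37 p38
/-- the element -/
def z7 : S8 := (x ^ 5 * y ^ 3) ^ 4
theorem rho_z7 : rho z7 = N24 := by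
  unfold z7
  rw [map_pow]
  have h : rho (x ^ 5 * y ^ 3) = N22 := by
    rw [map_mul, map_pow rho x, map_pow rho y, rho_x, rho_y, w18, w33, p34]
  rw [h, w39]
theorem mem_z7 {K : Subgroup T8} (hx : pr x ∈ K) (hy : pr y ∈ K) : pr z7 ∈ K := by
  unfold z7
  rw [map_pow]
  refine K.pow_mem ?_ 4
  rw [map_mul, map_pow pr x, map_pow pr y]
  exact (K.mul_mem (K.pow_mem hx 5) (K.pow_mem hy 3))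
attribute [irreducible] z7
def N25 : M8 := Matrix.fromBlocks !![1, 1, 0, 0; 2, 1, 0, 0; 0, 0, 2, 0; 0, 0, 0, 1] !![0, 0, 2, 1; 0, 0, 2, 2; 0, 2, 0, 0; 2, 0, 0, 0] !![0, 0, 1, 0; 0, 0, 0, 1; 1, 1, 0, 0; 1, 2, 0, 0] !![2, 0, 0, 0; 0, 2, 0, 0; 0, 0, 1, 1; 0, 0, 1, 2]
theorem p40 : N12 * N6 = N25 := by decide +kernel
theorem w41 : N6 ^ 3 = N25 := suc w14 p40
def N26 : M8 := Matrix.fromBlocks !![0, 0, 0, 0; 2, 0, 0, 0; 0, 0, 1, 2; 0, 0, 2, 1] !![0, 0, 1, 1; 0, 0, 1, 1; 0, 2, 0, 0; 0, 0, 0, 0] !![0, 0, 1, 0; 0, 0, 0, 0; 2, 2, 0, 0; 2, 2, 0, 0] !![1, 2, 0, 0; 2, 1, 0, 0; 0, 0, 0, 0; 0, 0, 0, 1]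
theorem p42 : N25 * N25 = N26 := by decide +kernel
theorem w43 : N6 ^ 6 = N26 := dbl w41 p42
def N27 : M8 := Matrix.fromBlocks !![1, 0, 0, 0; 0, 1, 0, 0; 0, 0, 2, 2; 0, 0, 2, 1] !![0, 0, 0, 1; 0, 0, 1, 0; 1, 1, 0, 0; 2, 1, 0, 0] !![0, 0, 2, 2; 0, 0, 2, 1; 2, 0, 0, 0; 0, 2, 0, 0] !![2, 1, 0, 0; 2, 2, 0, 0; 0, 0, 1, 0; 0, 0, 0, 2]
theorem p44 : N26 * N6 = N27 := by decide +kernel
theorem w45 : N6 ^ 7 = N27 := suc w43 p44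
def N28 : M8 := Matrix.fromBlocks !![0, 0, 1, 1; 0, 2, 0, 0; 2, 0, 0, 0; 2, 0, 0, 2] !![0, 1, 0, 0; 1, 0, 1, 0; 0, 2, 0, 0; 0, 2, 0, 0] !![0, 1, 0, 0; 0, 0, 1, 1; 0, 0, 0, 0; 0, 0, 0, 0] !![2, 0, 0, 0; 0, 0, 0, 0; 2, 0, 2, 1; 0, 0, 1, 2]
theorem p46 : N20 * N20 = N28 := by decide +kernel
theorem w47 : N11 ^ 4 = N28 := dbl w31 p46
def N29 : M8 := Matrix.fromBlocks !![0, 0, 1, 1; 0, 2, 0, 0; 2, 1, 1, 2; 0, 2, 1, 0] !![0, 1, 1, 2; 0, 0, 0, 1; 2, 2, 0, 0; 1, 0, 0, 0] !![2, 2, 1, 2; 0, 2, 2, 1; 0, 0, 2, 2; 0, 1, 0, 0] !![1, 2, 0, 0; 1, 0, 0, 0; 2, 2, 2, 1; 2, 0, 1, 1]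
theorem p48 : N27 * N28 = N29 := by decide +kernel
theorem w49 : N29 ^ 1 = N29 := pow_one _
def N30 : M8 := Matrix.fromBlocks !![2, 1, 0, 2; 0, 2, 0, 0; 0, 0, 2, 1; 1, 1, 2, 1] !![1, 1, 1, 0; 2, 0, 1, 0; 2, 2, 2, 2; 0, 1, 0, 2] !![1, 0, 1, 2; 0, 1, 1, 0; 2, 0, 2, 2; 1, 1, 1, 0] !![1, 0, 2, 0; 0, 0, 0, 2; 1, 0, 2, 0; 0, 0, 0, 0]
theorem p50 : N29 * N29 = N30 := by decide +kernel
theorem w51 : N29 ^ 2 = N30 := dbl w49 p50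
/-- the element -/
def z13 : S8 := (x ^ 7 * y ^ 4) ^ 2
theorem rho_z13 : rho z13 = N30 := by
  unfold z13
  rw [map_pow]
  have h : rho (x ^ 7 * y ^ 4) = N29 := by
    rw [map_mul, map_pow rho x, map_pow rho y, rho_x, rho_y, w45, w47, p48]
  rw [h, w51]
theorem mem_z13 {K : Subgroup T8} (hx : pr x ∈ K) (hy : pr y ∈ K) : pr z13 ∈ K := by
  unfold z13
  rw [map_pow]
  refine K.pow_mem ?_ 2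
  rw [map_mul, map_pow pr x, map_pow pr y]
  exact (K.mul_mem (K.pow_mem hx 7) (K.pow_mem hy 4))
attribute [irreducible] z13
theorem o_t2 : (rho t2 ^ 2 = 1 ∨ rho t2 ^ 2 = -1) ∧ rho t2 ≠ 1 ∧ rho t2 ≠ -1 := by
  rw [rho_t2, pow_two]
  exact ⟨Or.inr (by decide +kernel), by decide +kernel, by decide +kernel⟩
theorem w52 : N18 ^ 1 = N18 := pow_one _
def N31 : M8 := Matrix.fromBlocks !![1, 0, 0, 0; 1, 1, 1, 0; 0, 0, 1, 0; 2, 2, 1, 1] !![0, 0, 0, 0; 0, 0, 0, 2; 0, 0, 0, 0; 0, 1, 0, 1] !![1, 1, 2, 0; 2, 0, 2, 0; 0, 1, 1, 0; 0, 0, 0, 0] !![1, 2, 0, 2; 0, 1, 0, 1; 0, 2, 1, 0; 0, 0, 0, 1]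
theorem p53 : N18 * N18 = N31 := by decide +kernel
theorem w54 : N18 ^ 2 = N31 := dbl w52 p53
theorem p55 : N31 * N18 = 1 := by decide +kernel
theorem w56 : N18 ^ 3 = 1 := suc w54 p55
theorem o_t3 : rho t3 ^ 3 = 1 ∧ rho t3 ≠ 1 := by
  rw [rho_t3]
  exact ⟨w56, by decide +kernel⟩
theorem w57 : N19 ^ 1 = N19 := pow_one _
def N32 : M8 := Matrix.fromBlocks !![1, 0, 0, 2; 2, 2, 2, 0; 1, 2, 1, 0; 1, 1, 1, 1] !![1, 2, 1, 1; 2, 0, 1, 1; 1, 0, 2, 1; 0, 1, 0, 2] !![2, 1, 2, 2; 0, 0, 2, 0; 0, 2, 2, 0; 1, 2, 0, 2] !![1, 2, 2, 2; 0, 1, 0, 2; 2, 1, 2, 2; 2, 2, 0, 0]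
theorem p58 : N19 * N19 = N32 := by decide +kernel
theorem w59 : N19 ^ 2 = N32 := dbl w57 p58
def N33 : M8 := Matrix.fromBlocks !![0, 1, 1, 2; 1, 2, 0, 1; 0, 1, 2, 0; 1, 0, 0, 1] !![0, 2, 2, 1; 2, 2, 2, 0; 1, 2, 2, 1; 2, 2, 1, 1] !![0, 2, 1, 0; 1, 2, 1, 1; 0, 0, 1, 2; 2, 2, 2, 2] !![0, 1, 1, 1; 0, 2, 1, 1; 1, 2, 2, 2; 1, 1, 1, 0]
theorem p60 : N32 * N32 = N33 := by decide +kernel
theorem w61 : N19 ^ 4 = N33 := dbl w59 p60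
theorem p62 : N33 * N19 = 1 := by decide +kernel
theorem w63 : N19 ^ 5 = 1 := suc w61 p62
theorem o_ya : rho ya ^ 5 = 1 ∧ rho ya ≠ 1 := by
  rw [rho_ya]
  exact ⟨w63, by decide +kernel⟩
theorem w64 : N13 ^ 1 = N13 := pow_one _
def N34 : M8 := Matrix.fromBlocks !![2, 1, 0, 0; 0, 2, 0, 0; 0, 0, 1, 1; 0, 0, 1, 2] !![0, 0, 1, 0; 0, 0, 1, 1; 0, 2, 0, 0; 1, 0, 0, 0] !![0, 0, 1, 0; 0, 0, 0, 2; 2, 2, 0, 0; 2, 0, 0, 0] !![1, 1, 0, 0; 1, 1, 0, 0; 0, 0, 2, 1; 0, 0, 1, 2]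
theorem p65 : N13 * N13 = N34 := by decide +kernel
theorem w66 : N13 ^ 2 = N34 := dbl w64 p65
def N35 : M8 := Matrix.fromBlocks !![0, 0, 0, 0; 1, 0, 0, 0; 0, 0, 2, 1; 0, 0, 1, 2] !![0, 0, 2, 2; 0, 0, 2, 2; 0, 1, 0, 0; 0, 0, 0, 0] !![0, 0, 2, 0; 0, 0, 0, 0; 1, 1, 0, 0; 1, 1, 0, 0] !![2, 1, 0, 0; 1, 2, 0, 0; 0, 0, 0, 0; 0, 0, 0, 2]
theorem p67 : N34 * N34 = N35 := by decide +kernel
theorem w68 : N13 ^ 4 = N35 := dbl w66 p67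
theorem p69 : N35 * N13 = 1 := by decide +kernel
theorem w70 : N13 ^ 5 = 1 := suc w68 p69
theorem o_yb : rho yb ^ 5 = 1 ∧ rho yb ≠ 1 := by
  rw [rho_yb]
  exact ⟨w70, by decide +kernel⟩
theorem w71 : N24 ^ 1 = N24 := pow_one _
def N36 : M8 := Matrix.fromBlocks !![0, 1, 0, 2; 1, 1, 1, 0; 2, 0, 2, 2; 1, 1, 1, 0] !![2, 2, 2, 2; 2, 1, 0, 1; 1, 2, 0, 2; 1, 1, 1, 1] !![2, 0, 2, 1; 1, 0, 0, 0; 1, 0, 1, 2; 0, 0, 1, 2] !![0, 2, 2, 2; 0, 0, 2, 2; 0, 0, 2, 2; 0, 2, 2, 2]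
theorem p72 : N24 * N24 = N36 := by decide +kernel
theorem w73 : N24 ^ 2 = N36 := dbl w71 p72
def N37 : M8 := Matrix.fromBlocks !![1, 2, 2, 0; 1, 0, 1, 2; 2, 1, 0, 2; 0, 1, 2, 1] !![1, 2, 2, 2; 2, 2, 1, 0; 0, 1, 1, 1; 1, 1, 2, 1] !![0, 2, 0, 2; 0, 1, 0, 2; 0, 1, 2, 2; 1, 1, 0, 1] !![2, 2, 1, 1; 0, 2, 1, 2; 2, 2, 1, 1; 1, 2, 1, 0]
theorem p74 : N36 * N24 = N37 := by decide +kernel
theorem w75 : N24 ^ 3 = N37 := suc w73 p74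
def N38 : M8 := Matrix.fromBlocks !![0, 0, 2, 2; 0, 0, 2, 2; 1, 0, 2, 0; 0, 0, 1, 1] !![1, 1, 1, 2; 0, 0, 0, 0; 0, 2, 0, 0; 1, 0, 1, 2] !![0, 1, 2, 2; 0, 1, 1, 0; 0, 0, 1, 1; 2, 2, 1, 2] !![1, 0, 0, 0; 2, 2, 1, 1; 2, 0, 1, 2; 2, 1, 0, 0]
theorem p76 : N37 * N37 = N38 := by decide +kernel
theorem w77 : N24 ^ 6 = N38 := dbl w75 p76
theorem p78 : N38 * N24 = 1 := by decide +kernel
theorem w79 : N24 ^ 7 = 1 := suc w77 p78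
theorem o_z7 : rho z7 ^ 7 = 1 ∧ rho z7 ≠ 1 := by
  rw [rho_z7]
  exact ⟨w79, by decide +kernel⟩
theorem w80 : N30 ^ 1 = N30 := pow_one _
def N39 : M8 := Matrix.fromBlocks !![0, 1, 2, 1; 1, 1, 1, 0; 0, 2, 1, 2; 2, 1, 0, 2] !![0, 1, 1, 0; 1, 0, 2, 0; 2, 2, 0, 1; 1, 0, 0, 2] !![0, 0, 2, 2; 2, 1, 1, 1; 2, 1, 1, 2; 2, 0, 2, 0] !![0, 2, 0, 0; 1, 2, 0, 2; 0, 2, 0, 2; 2, 0, 1, 2]
theorem p81 : N30 * N30 = N39 := by decide +kernel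
theorem w82 : N30 ^ 2 = N39 := dbl w80 p81
def N40 : M8 := Matrix.fromBlocks !![0, 1, 0, 2; 1, 0, 1, 0; 2, 0, 2, 1; 0, 2, 1, 2] !![1, 2, 1, 2; 2, 0, 1, 2; 2, 1, 2, 1; 2, 1, 2, 1] !![2, 1, 1, 1; 2, 0, 0, 2; 2, 1, 1, 1; 1, 1, 1, 0] !![1, 0, 1, 0; 1, 2, 1, 2; 0, 0, 2, 1; 0, 0, 0, 1]
theorem p83 : N39 * N30 = N40 := by decide +kernel
theorem w84 : N30 ^ 3 = N40 := suc w82 p83
def N41 : M8 := Matrix.fromBlocks !![2, 2, 1, 1; 1, 0, 1, 0; 0, 0, 1, 2; 0, 0, 2, 2] !![0, 0, 1, 2; 2, 0, 1, 0; 2, 0, 0, 0; 1, 2, 0, 0] !![1, 0, 0, 0; 1, 1, 0, 2; 2, 1, 1, 0; 1, 2, 1, 0] !![0, 0, 1, 0; 0, 1, 2, 1; 2, 0, 2, 2; 2, 0, 1, 0]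
theorem p85 : N40 * N40 = N41 := by decide +kernel
theorem w86 : N30 ^ 6 = N41 := dbl w84 p85
def N42 : M8 := Matrix.fromBlocks !![1, 0, 1, 0; 0, 0, 0, 0; 2, 0, 2, 0; 0, 2, 0, 0] !![1, 2, 2, 0; 1, 0, 2, 1; 1, 1, 2, 0; 0, 0, 2, 2] !![1, 0, 2, 1; 0, 1, 0, 1; 1, 1, 2, 1; 2, 0, 2, 0] !![2, 0, 0, 1; 1, 2, 0, 1; 0, 0, 2, 2; 2, 0, 1, 1]
theorem p87 : N41 * N41 = N42 := by decide +kernel
theorem w88 : N30 ^ 12 = N42 := dbl w86 p87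
theorem p89 : N42 * N30 = 1 := by decide +kernel
theorem w90 : N30 ^ 13 = 1 := suc w88 p89
theorem o_z13 : rho z13 ^ 13 = 1 ∧ rho z13 ≠ 1 := by
  rw [rho_z13]
  exact ⟨w90, by decide +kernel⟩
theorem f_ya : ∃ v : I8 → R3, (rho ya).mulVec v = v ∧ v ≠ 0 := by
  rw [rho_ya]
  exact ⟨Sum.elim ![0, 0, 0, 1] ![2, 0, 2, 0], by decide +kernel, by decide +kernel⟩
def N43 : M8 := Matrix.fromBlocks !![1, 1, 0, 0; 1, 1, 0, 0; 0, 0, 2, 1; 0, 0, 1, 2] !![0, 0, 0, 1; 0, 0, 2, 0; 1, 1, 0, 0; 0, 1, 0, 0] !![0, 0, 2, 2; 0, 0, 2, 0; 1, 0, 0, 0; 0, 2, 0, 0] !![2, 0, 0, 0; 1, 2, 0, 0; 0, 0, 1, 1; 0, 0, 1, 2]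
theorem p91 : N34 * N13 = N43 := by decide +kernel
theorem w92 : N13 ^ 3 = N43 := suc w66 p91
theorem f_yb : rho yb ^ 4 + rho yb ^ 3 + rho yb ^ 2 + rho yb + 1 = 0 := by
  rw [rho_yb, w68, w92, w66]
  decide +kernel
/-- **the certificate** -/
theorem top (OT : OrdDiv.OrderTable.{0})
    (hS : ∀ (X : Type) [Group X] [Finite X] [IsSimpleGroup X], Cfsg.IsKnownSimple' X)
    {K : Subgroup T8} (hx : pr x ∈ K) (hy : pr y ∈ K) : K = ⊤ :=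
  top_of OT hS ⟨mem_t2 hx hy, o_t2, mem_t3 hx hy, o_t3, mem_ya hx hy, o_ya, f_ya, mem_yb hx hy, o_yb, f_yb, mem_z7 hx hy, o_z7,
    mem_z13 hx hy, o_z13⟩

end Cfsg.Agent.H304.Spr.Rfl
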