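import Cfsg.Agent.H304.Spr.Base

/-!
# S3938, `PΩ⁺₈(3)`: special certificate (helper304)

generated by a script
-/

set_option autoImplicit false
set_option maxRecDepth 100000

namespace Cfsg.Agent.H304.Spr.Spe

open Subgroup Cfsg Cfsg.Agent Cfsg.Agent.H503.El.O83 Cfsg.Agent.H938.Sax Matrix

theorem dbl {A B C : M8} {k : ℕ} (h : A ^ k = B) (h2 : B * B = C) : A ^ (k + k) = C := by rw [pow_add, h, h2]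

theorem suc {A B C : M8} {k : ℕ} (h : A ^ k = B) (h2 : B * A = C) : A ^ (k + 1) = C := by rw [pow_succ, h, h2]

def N0 : M8 := Matrix.fromBlocks !![1, 2, 0, 0; 0, 1, 0, 0; 0, 0, 1, 0; 0, 0, 0, 1] !![0, 0, 0, 0; 0, 0, 0, 0; 0, 0, 0, 0; 0, 0, 0, 0] !![0, 0, 0, 0; 0, 0, 0, 0; 0, 0, 0, 0; 0, 0, 0, 0] !![1, 0, 0, 0; 1, 1, 0, 0; 0, 0, 1, 0; 0, 0, 0, 1]
theorem r0 : rho (rt (.inl 0) (.inr 1) (by decide) (by decide)) = N0 := (rho_rt _ _ _ _).trans (by decide +kernel)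
def N1 : M8 := Matrix.fromBlocks !![1, 0, 0, 0; 0, 1, 0, 0; 0, 0, 1, 2; 0, 0, 0, 1] !![0, 0, 0, 0; 0, 0, 0, 0; 0, 0, 0, 0; 0, 0, 0, 0] !![0, 0, 0, 0; 0, 0, 0, 0; 0, 0, 0, 0; 0, 0, 0, 0] !![1, 0, 0, 0; 0, 1, 0, 0; 0, 0, 1, 0; 0, 0, 1, 1]
theorem r1 : rho (rt (.inl 2) (.inr 3) (by decide) (by decide)) = N1 := (rho_rt _ _ _ _).trans (by decide +kernel)
def N2 : M8 := Matrix.fromBlocks !![1, 2, 0, 0; 0, 1, 0, 0; 0, 0, 1, 2; 0, 0, 0, 1] !![0, 0, 0, 0; 0, 0, 0, 0; 0, 0, 0, 0; 0, 0, 0, 0] !![0, 0, 0, 0; 0, 0, 0, 0; 0, 0, 0, 0; 0, 0, 0, 0] !![1, 0, 0, 0; 1, 1, 0, 0; 0, 0, 1, 0; 0, 0, 1, 1]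
theorem p2 : N0 * N1 = N2 := by decide +kernel
def N3 : M8 := Matrix.fromBlocks !![1, 0, 0, 0; 0, 1, 0, 0; 0, 0, 1, 0; 0, 0, 1, 1] !![0, 0, 0, 0; 0, 0, 0, 0; 0, 0, 0, 0; 0, 0, 0, 0] !![0, 0, 0, 0; 0, 0, 0, 0; 0, 0, 0, 0; 0, 0, 0, 0] !![1, 0, 0, 0; 0, 1, 0, 0; 0, 0, 1, 2; 0, 0, 0, 1]
theorem r3 : rho (rt (.inr 2) (.inl 3) (by decide) (by decide)) = N3 := (rho_rt _ _ _ _).trans (by decide +kernel)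
def N4 : M8 := Matrix.fromBlocks !![1, 2, 0, 0; 0, 1, 0, 0; 0, 0, 0, 2; 0, 0, 1, 1] !![0, 0, 0, 0; 0, 0, 0, 0; 0, 0, 0, 0; 0, 0, 0, 0] !![0, 0, 0, 0; 0, 0, 0, 0; 0, 0, 0, 0; 0, 0, 0, 0] !![1, 0, 0, 0; 1, 1, 0, 0; 0, 0, 1, 2; 0, 0, 1, 0]
theorem p4 : N2 * N3 = N4 := by decide +kernel
def N5 : M8 := Matrix.fromBlocks !![1, 0, 0, 0; 2, 1, 0, 0; 0, 0, 1, 0; 0, 0, 0, 1] !![0, 0, 0, 0; 0, 0, 0, 0; 0, 0, 0, 0; 0, 0, 0, 0] !![0, 0, 0, 0; 0, 0, 0, 0; 0, 0, 0, 0; 0, 0, 0, 0] !![1, 1, 0, 0; 0, 1, 0, 0; 0, 0, 1, 0; 0, 0, 0, 1]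
theorem r5 : rho (rt (.inl 1) (.inr 0) (by decide) (by decide)) = N5 := (rho_rt _ _ _ _).trans (by decide +kernel)
def N6 : M8 := Matrix.fromBlocks !![2, 2, 0, 0; 2, 1, 0, 0; 0, 0, 0, 2; 0, 0, 1, 1] !![0, 0, 0, 0; 0, 0, 0, 0; 0, 0, 0, 0; 0, 0, 0, 0] !![0, 0, 0, 0; 0, 0, 0, 0; 0, 0, 0, 0; 0, 0, 0, 0] !![1, 1, 0, 0; 1, 2, 0, 0; 0, 0, 1, 2; 0, 0, 1, 0]
theorem p6 : N4 * N5 = N6 := by decide +kernel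
def N7 : M8 := Matrix.fromBlocks !![1, 0, 0, 0; 0, 1, 0, 0; 0, 0, 1, 0; 0, 0, 0, 1] !![0, 0, 0, 0; 0, 0, 2, 0; 0, 1, 0, 0; 0, 0, 0, 0] !![0, 0, 0, 0; 0, 0, 0, 0; 0, 0, 0, 0; 0, 0, 0, 0] !![1, 0, 0, 0; 0, 1, 0, 0; 0, 0, 1, 0; 0, 0, 0, 1]
theorem r7 : rho (rt (.inl 1) (.inl 2) (by decide) (by decide)) = N7 := (rho_rt _ _ _ _).trans (by decide +kernel)
def N8 : M8 := Matrix.fromBlocks !![2, 2, 0, 0; 2, 1, 0, 0; 0, 0, 0, 2; 0, 0, 1, 1] !![0, 0, 1, 0; 0, 0, 2, 0; 0, 0, 0, 0; 0, 1, 0, 0] !![0, 0, 0, 0; 0, 0, 0, 0; 0, 0, 0, 0; 0, 0, 0, 0] !![1, 1, 0, 0; 1, 2, 0, 0; 0, 0, 1, 2; 0, 0, 1, 0]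
theorem p8 : N6 * N7 = N8 := by decide +kernel
def N9 : M8 := Matrix.fromBlocks !![1, 0, 0, 0; 0, 1, 0, 0; 0, 0, 1, 0; 0, 0, 0, 1] !![0, 0, 0, 0; 0, 0, 0, 0; 0, 0, 0, 0; 0, 0, 0, 0] !![0, 0, 0, 0; 0, 0, 0, 0; 0, 0, 0, 2; 0, 0, 1, 0] !![1, 0, 0, 0; 0, 1, 0, 0; 0, 0, 1, 0; 0, 0, 0, 1]
theorem r9 : rho (rt (.inr 2) (.inr 3) (by decide) (by decide)) = N9 := (rho_rt _ _ _ _).trans (by decide +kernel)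
def N10 : M8 := Matrix.fromBlocks !![2, 2, 0, 2; 2, 1, 0, 1; 0, 0, 0, 2; 0, 0, 1, 1] !![0, 0, 1, 0; 0, 0, 2, 0; 0, 0, 0, 0; 0, 1, 0, 0] !![0, 0, 0, 0; 0, 0, 0, 0; 0, 0, 2, 2; 0, 0, 0, 2] !![1, 1, 0, 0; 1, 2, 0, 0; 0, 0, 1, 2; 0, 0, 1, 0]
theorem p10 : N8 * N9 = N10 := by decide +kernel
def N11 : M8 := Matrix.fromBlocks !![2, 2, 2, 2; 2, 1, 1, 1; 0, 0, 2, 2; 0, 0, 2, 1] !![0, 0, 1, 2; 0, 0, 2, 1; 0, 0, 0, 0; 0, 1, 0, 0] !![0, 0, 0, 0; 0, 0, 0, 0; 0, 0, 1, 2; 0, 0, 2, 2] !![1, 1, 0, 0; 1, 2, 0, 0; 0, 0, 1, 1; 0, 0, 1, 2]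
theorem p11 : N10 * N3 = N11 := by decide +kernel
def N12 : M8 := Matrix.fromBlocks !![1, 0, 0, 0; 0, 1, 0, 0; 0, 0, 1, 0; 0, 0, 0, 1] !![0, 2, 0, 0; 1, 0, 0, 0; 0, 0, 0, 0; 0, 0, 0, 0] !![0, 0, 0, 0; 0, 0, 0, 0; 0, 0, 0, 0; 0, 0, 0, 0] !![1, 0, 0, 0; 0, 1, 0, 0; 0, 0, 1, 0; 0, 0, 0, 1]
theorem r12 : rho (rt (.inl 0) (.inl 1) (by decide) (by decide)) = N12 := (rho_rt _ _ _ _).trans (by decide +kernel)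
def N13 : M8 := Matrix.fromBlocks !![2, 2, 2, 2; 2, 1, 1, 1; 0, 0, 2, 2; 0, 0, 2, 1] !![2, 1, 1, 2; 1, 1, 2, 1; 0, 0, 0, 0; 0, 1, 0, 0] !![0, 0, 0, 0; 0, 0, 0, 0; 0, 0, 1, 2; 0, 0, 2, 2] !![1, 1, 0, 0; 1, 2, 0, 0; 0, 0, 1, 1; 0, 0, 1, 2]
theorem p13 : N11 * N12 = N13 := by decide +kernel
/-- the element -/
def x : S8 := (rt (.inl 0) (.inr 1) (by decide) (by decide)) * (rt (.inl 2) (.inr 3) (by decide) (by decide)) * (rt (.inr 2) (.inl 3) (by decide) (by decide)) * (rt (.inl 1) (.inr 0) (by decide) (by decide)) * (rt (.inl 1) (.inl 2) (by decide) (by decide)) * (rt (.inr 2) (.inr 3) (by decide) (by decide)) * (rt (.inr 2) (.inl 3) (by decide) (by decide)) * (rt (.inl 0) (.inl 1) (by decide) (by decide))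
theorem rho_x : rho x = N13 := by
  unfold x
  rw [map_mul, map_mul, map_mul, map_mul, map_mul, map_mul, map_mul, r0, r1, r3, r5, r7, r9, r12, p2, p4, p6, p8, p10, p11, p13]
def N14 : M8 := Matrix.fromBlocks !![1, 0, 0, 0; 0, 1, 0, 0; 1, 0, 1, 0; 0, 0, 0, 1] !![0, 0, 0, 0; 0, 0, 0, 0; 0, 0, 0, 0; 0, 0, 0, 0] !![0, 0, 0, 0; 0, 0, 0, 0; 0, 0, 0, 0; 0, 0, 0, 0] !![1, 0, 2, 0; 0, 1, 0, 0; 0, 0, 1, 0; 0, 0, 0, 1]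
theorem r14 : rho (rt (.inr 0) (.inl 2) (by decide) (by decide)) = N14 := (rho_rt _ _ _ _).trans (by decide +kernel)
/-- the element -/
def y : S8 := rt (.inr 0) (.inl 2) (by decide) (by decide)
theorem rho_y : rho y = N14 := r14
attribute [irreducible] x y
theorem w15 : N14 ^ 1 = N14 := pow_one _
theorem w16 : N13 ^ 1 = N13 := pow_one _
def N15 : M8 := Matrix.fromBlocks !![2, 0, 1, 0; 0, 2, 1, 2; 0, 0, 2, 0; 0, 0, 0, 2] !![0, 1, 0, 2; 1, 1, 1, 0; 0, 2, 0, 0; 1, 0, 0, 0] !![0, 0, 0, 0; 0, 0, 0, 0; 0, 0, 0, 2; 0, 0, 1, 0] !![2, 0, 0, 0; 0, 2, 0, 0; 0, 2, 2, 0; 0, 2, 0, 2]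
theorem p17 : N13 * N13 = N15 := by decide +kernel
theorem w18 : N13 ^ 2 = N15 := dbl w16 p17
def N16 : M8 := Matrix.fromBlocks !![1, 0, 0, 0; 0, 1, 1, 1; 0, 0, 1, 0; 0, 0, 0, 1] !![0, 1, 0, 2; 0, 2, 1, 0; 0, 2, 0, 0; 1, 0, 0, 0] !![0, 0, 0, 0; 0, 0, 0, 0; 0, 0, 0, 2; 0, 0, 1, 0] !![1, 0, 0, 0; 0, 1, 0, 0; 2, 2, 1, 0; 0, 1, 0, 1]
theorem p19 : N15 * N15 = N16 := by decide +kernel
theorem w20 : N13 ^ 4 = N16 := dbl w18 p19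
def N17 : M8 := Matrix.fromBlocks !![2, 2, 0, 0; 2, 1, 0, 0; 0, 0, 2, 2; 0, 0, 2, 1] !![0, 0, 0, 0; 0, 0, 0, 2; 2, 1, 0, 0; 1, 2, 0, 0] !![0, 0, 0, 0; 0, 0, 0, 0; 0, 0, 2, 1; 0, 0, 1, 1] !![1, 1, 0, 0; 1, 2, 0, 0; 1, 2, 1, 1; 1, 2, 1, 2]
theorem p21 : N16 * N13 = N17 := by decide +kernel
theorem w22 : N13 ^ 5 = N17 := suc w20 p21
def N18 : M8 := Matrix.fromBlocks !![2, 2, 0, 0; 2, 1, 0, 0; 2, 2, 2, 2; 0, 0, 2, 1] !![0, 0, 0, 0; 0, 0, 0, 2; 2, 1, 0, 0; 1, 2, 0, 0] !![0, 0, 1, 2; 0, 0, 0, 0; 0, 0, 2, 1; 0, 0, 1, 1] !![0, 2, 2, 2; 1, 2, 0, 0; 1, 2, 1, 1; 1, 2, 1, 2]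
theorem p23 : N14 * N17 = N18 := by decide +kernel
theorem w24 : N18 ^ 1 = N18 := pow_one _
def N19 : M8 := Matrix.fromBlocks !![2, 0, 0, 0; 0, 2, 2, 2; 0, 1, 1, 1; 1, 1, 1, 1] !![0, 0, 0, 1; 2, 1, 2, 0; 1, 0, 1, 2; 1, 1, 2, 2] !![2, 2, 0, 2; 0, 0, 1, 2; 1, 1, 1, 0; 2, 2, 0, 2] !![1, 2, 1, 0; 2, 0, 2, 2; 0, 2, 1, 2; 2, 0, 2, 1]
theorem p25 : N18 * N18 = N19 := by decide +kernel
theorem w26 : N18 ^ 2 = N19 := dbl w24 p25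
def N20 : M8 := Matrix.fromBlocks !![0, 2, 0, 2; 2, 2, 2, 2; 2, 2, 2, 1; 2, 0, 1, 0] !![2, 0, 2, 0; 0, 0, 1, 2; 0, 0, 2, 2; 2, 2, 2, 1] !![0, 0, 0, 0; 0, 1, 2, 2; 1, 2, 0, 2; 2, 2, 2, 0] !![2, 2, 2, 0; 0, 1, 1, 0; 2, 0, 0, 2; 1, 0, 2, 2]
theorem p27 : N19 * N19 = N20 := by decide +kernel
theorem w28 : N18 ^ 4 = N20 := dbl w26 p27
def N21 : M8 := Matrix.fromBlocks !![1, 2, 1, 2; 0, 1, 0, 0; 0, 1, 0, 0; 0, 0, 0, 0] !![1, 0, 0, 1; 0, 0, 0, 0; 0, 0, 1, 1; 1, 0, 1, 2] !![0, 0, 0, 0; 0, 2, 1, 1; 0, 1, 2, 2; 0, 1, 2, 1] !![1, 0, 0, 0; 2, 1, 1, 0; 1, 0, 0, 0; 2, 0, 0, 0]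
theorem p29 : N20 * N18 = N21 := by decide +kernel
theorem w30 : N18 ^ 5 = N21 := suc w28 p29
/-- the element -/
def t2 : S8 := (y ^ 1 * x ^ 5) ^ 5
theorem rho_t2 : rho t2 = N21 := by
  unfold t2
  rw [map_pow]
  have h : rho (y ^ 1 * x ^ 5) = N18 := by
    rw [map_mul, map_pow rho y, map_pow rho x, rho_y, rho_x, w15, w22, p23]
  rw [h, w30]
theorem mem_t2 {K : Subgroup T8} (hx : pr x ∈ K) (hy : pr y ∈ K) : pr t2 ∈ K := by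
  unfold t2
  rw [map_pow]
  refine K.pow_mem ?_ 5
  rw [map_mul, map_pow pr y, map_pow pr x]
  exact (K.mul_mem (K.pow_mem hy 1) (K.pow_mem hx 5))
attribute [irreducible] t2
/-- the element -/
def t3 : S8 := (y ^ 1) ^ 1
theorem rho_t3 : rho t3 = N14 := by
  unfold t3
  rw [map_pow]
  have h : rho (y ^ 1) = N14 := by
    rw [map_pow rho y, rho_y, w15]
  rw [h, w15]
theorem mem_t3 {K : Subgroup T8} (hx : pr x ∈ K) (hy : pr y ∈ K) : pr t3 ∈ K := by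
  unfold t3
  rw [map_pow]
  refine K.pow_mem ?_ 1
  rw [map_pow pr y]
  exact (K.pow_mem hy 1)
attribute [irreducible] t3
/-- the element -/
def ya : S8 := (y ^ 1 * x ^ 5) ^ 2
theorem rho_ya : rho ya = N19 := by
  unfold ya
  rw [map_pow]
  have h : rho (y ^ 1 * x ^ 5) = N18 := by
    rw [map_mul, map_pow rho y, map_pow rho x, rho_y, rho_x, w15, w22, p23]
  rw [h, w26]
theorem mem_ya {K : Subgroup T8} (hx : pr x ∈ K) (hy : pr y ∈ K) : pr ya ∈ K := by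
  unfold ya
  rw [map_pow]
  refine K.pow_mem ?_ 2
  rw [map_mul, map_pow pr y, map_pow pr x]
  exact (K.mul_mem (K.pow_mem hy 1) (K.pow_mem hx 5))
attribute [irreducible] ya
def N22 : M8 := Matrix.fromBlocks !![1, 0, 0, 0; 0, 1, 0, 0; 2, 0, 1, 0; 0, 0, 0, 1] !![0, 0, 0, 0; 0, 0, 0, 0; 0, 0, 0, 0; 0, 0, 0, 0] !![0, 0, 0, 0; 0, 0, 0, 0; 0, 0, 0, 0; 0, 0, 0, 0] !![1, 0, 1, 0; 0, 1, 0, 0; 0, 0, 1, 0; 0, 0, 0, 1]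
theorem p31 : N14 * N14 = N22 := by decide +kernel
theorem w32 : N14 ^ 2 = N22 := dbl w15 p31
def N23 : M8 := Matrix.fromBlocks !![1, 0, 2, 0; 0, 1, 2, 1; 0, 0, 1, 0; 0, 0, 0, 1] !![0, 1, 0, 1; 0, 2, 2, 0; 0, 1, 0, 0; 2, 0, 0, 0] !![0, 0, 0, 0; 0, 0, 0, 0; 0, 0, 0, 1; 0, 0, 2, 0] !![1, 0, 0, 0; 0, 1, 0, 0; 0, 1, 1, 0; 0, 1, 0, 1]
theorem p33 : N16 * N16 = N23 := by decide +kernel
theorem w34 : N13 ^ 8 = N23 := dbl w20 p33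
def N24 : M8 := Matrix.fromBlocks !![1, 0, 0, 0; 0, 1, 1, 1; 0, 0, 1, 0; 0, 0, 0, 1] !![0, 2, 0, 2; 2, 2, 1, 0; 0, 2, 0, 0; 1, 0, 0, 0] !![0, 0, 0, 0; 0, 0, 0, 0; 0, 0, 0, 2; 0, 0, 1, 0] !![1, 0, 0, 0; 0, 1, 0, 0; 2, 2, 1, 0; 0, 1, 0, 1]
theorem p35 : N23 * N23 = N24 := by decide +kernel
theorem w36 : N13 ^ 16 = N24 := dbl w34 p35
def N25 : M8 := Matrix.fromBlocks !![2, 2, 0, 0; 2, 1, 0, 0; 0, 0, 2, 2; 0, 0, 2, 1] !![1, 2, 0, 0; 2, 2, 0, 2; 2, 1, 0, 0; 1, 2, 0, 0] !![0, 0, 0, 0; 0, 0, 0, 0; 0, 0, 2, 1; 0, 0, 1, 1] !![1, 1, 0, 0; 1, 2, 0, 0; 1, 2, 1, 1; 1, 2, 1, 2]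
theorem p37 : N24 * N13 = N25 := by decide +kernel
theorem w38 : N13 ^ 17 = N25 := suc w36 p37
def N26 : M8 := Matrix.fromBlocks !![2, 2, 0, 0; 2, 1, 0, 0; 1, 1, 2, 2; 0, 0, 2, 1] !![1, 2, 0, 0; 2, 2, 0, 2; 1, 2, 0, 0; 1, 2, 0, 0] !![0, 0, 2, 1; 0, 0, 0, 0; 0, 0, 2, 1; 0, 0, 1, 1] !![2, 0, 1, 1; 1, 2, 0, 0; 1, 2, 1, 1; 1, 2, 1, 2]
theorem p39 : N22 * N25 = N26 := by decide +kernel
theorem w40 : N26 ^ 1 = N26 := pow_one _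
def N27 : M8 := Matrix.fromBlocks !![2, 0, 2, 1; 0, 2, 0, 1; 0, 2, 1, 1; 2, 2, 2, 0] !![1, 0, 1, 2; 0, 2, 1, 2; 2, 1, 1, 0; 1, 1, 1, 1] !![2, 2, 1, 0; 0, 0, 2, 1; 2, 2, 2, 2; 1, 1, 1, 1] !![0, 1, 1, 2; 1, 1, 1, 1; 0, 2, 0, 1; 0, 2, 1, 0]
theorem p41 : N26 * N26 = N27 := by decide +kernel
theorem w42 : N26 ^ 2 = N27 := dbl w40 p41
def N28 : M8 := Matrix.fromBlocks !![0, 0, 1, 2; 0, 1, 1, 2; 2, 2, 0, 0; 0, 1, 0, 1] !![1, 1, 2, 2; 0, 1, 1, 2; 1, 2, 1, 2; 1, 0, 0, 0] !![2, 1, 2, 1; 1, 2, 1, 0; 0, 1, 0, 0; 0, 2, 2, 1] !![2, 0, 2, 1; 0, 0, 0, 2; 1, 0, 2, 0; 0, 2, 0, 2]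
theorem p43 : N27 * N27 = N28 := by decide +kernel
theorem w44 : N26 ^ 4 = N28 := dbl w42 p43
def N29 : M8 := Matrix.fromBlocks !![2, 1, 1, 2; 0, 0, 0, 0; 1, 0, 0, 2; 2, 0, 0, 1] !![1, 0, 1, 0; 1, 1, 1, 1; 2, 2, 1, 2; 0, 1, 0, 0] !![2, 0, 0, 1; 2, 2, 1, 2; 2, 1, 0, 0; 0, 0, 2, 1] !![2, 0, 0, 2; 2, 0, 2, 0; 1, 1, 1, 0; 0, 1, 1, 1]
theorem p45 : N28 * N28 = N29 := by decide +kernel
theorem w46 : N26 ^ 8 = N29 := dbl w44 p45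
/-- the element -/
def yb : S8 := (y ^ 2 * x ^ 17) ^ 8
theorem rho_yb : rho yb = N29 := by
  unfold yb
  rw [map_pow]
  have h : rho (y ^ 2 * x ^ 17) = N26 := by
    rw [map_mul, map_pow rho y, map_pow rho x, rho_y, rho_x, w32, w38, p39]
  rw [h, w46]
theorem mem_yb {K : Subgroup T8} (hx : pr x ∈ K) (hy : pr y ∈ K) : pr yb ∈ K := by
  unfold yb
  rw [map_pow]
  refine K.pow_mem ?_ 8
  rw [map_mul, map_pow pr y, map_pow pr x]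
  exact (K.mul_mem (K.pow_mem hy 2) (K.pow_mem hx 17))
attribute [irreducible] yb
def N30 : M8 := Matrix.fromBlocks !![1, 1, 1, 1; 1, 2, 0, 2; 0, 0, 1, 1; 0, 0, 1, 2] !![2, 1, 1, 2; 1, 1, 2, 0; 2, 1, 0, 0; 1, 0, 0, 0] !![0, 0, 0, 0; 0, 0, 0, 0; 0, 0, 0, 0; 0, 0, 0, 0] !![2, 2, 0, 0; 2, 1, 0, 0; 2, 0, 2, 2; 2, 1, 2, 1]
theorem p47 : N15 * N13 = N30 := by decide +kernel
theorem w48 : N13 ^ 3 = N30 := suc w18 p47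
def N31 : M8 := Matrix.fromBlocks !![2, 0, 0, 0; 0, 2, 0, 0; 0, 0, 2, 0; 0, 0, 0, 2] !![0, 1, 0, 0; 2, 0, 0, 0; 0, 0, 0, 0; 0, 0, 0, 0] !![0, 0, 0, 0; 0, 0, 0, 0; 0, 0, 0, 0; 0, 0, 0, 0] !![2, 0, 0, 0; 0, 2, 0, 0; 0, 0, 2, 0; 0, 0, 0, 2]
theorem p49 : N30 * N30 = N31 := by decide +kernel
theorem w50 : N13 ^ 6 = N31 := dbl w48 p49
def N32 : M8 := Matrix.fromBlocks !![1, 1, 1, 1; 1, 2, 2, 2; 0, 0, 1, 1; 0, 0, 1, 2] !![2, 1, 2, 1; 1, 1, 1, 2; 0, 0, 0, 0; 0, 2, 0, 0] !![0, 0, 0, 0; 0, 0, 0, 0; 0, 0, 2, 1; 0, 0, 1, 1] !![2, 2, 0, 0; 2, 1, 0, 0; 0, 0, 2, 2; 0, 0, 2, 1]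
theorem p51 : N31 * N13 = N32 := by decide +kernel
theorem w52 : N13 ^ 7 = N32 := suc w50 p51
def N33 : M8 := Matrix.fromBlocks !![1, 1, 1, 1; 1, 2, 2, 2; 1, 1, 2, 2; 0, 0, 1, 2] !![2, 1, 2, 1; 1, 1, 1, 2; 2, 1, 2, 1; 0, 2, 0, 0] !![0, 0, 1, 2; 0, 0, 0, 0; 0, 0, 2, 1; 0, 0, 1, 1] !![2, 2, 1, 1; 2, 1, 0, 0; 0, 0, 2, 2; 0, 0, 2, 1]
theorem p53 : N14 * N32 = N33 := by decide +kernel
theorem w54 : N33 ^ 1 = N33 := pow_one _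
def N34 : M8 := Matrix.fromBlocks !![0, 1, 1, 2; 2, 1, 1, 0; 1, 2, 1, 0; 1, 1, 1, 0] !![2, 1, 1, 2; 0, 0, 0, 0; 1, 1, 0, 0; 0, 1, 2, 1] !![1, 1, 0, 0; 0, 0, 2, 1; 2, 2, 2, 1; 1, 1, 2, 1] !![1, 2, 2, 0; 0, 2, 2, 2; 1, 1, 0, 2; 2, 0, 2, 0]
theorem p55 : N33 * N33 = N34 := by decide +kernel
theorem w56 : N33 ^ 2 = N34 := dbl w54 p55
def N35 : M8 := Matrix.fromBlocks !![2, 2, 0, 1; 0, 2, 1, 1; 0, 0, 0, 0; 2, 0, 2, 0] !![2, 1, 2, 0; 2, 0, 2, 1; 1, 0, 2, 1; 1, 0, 2, 2] !![1, 1, 1, 0; 0, 2, 0, 0; 1, 0, 1, 1; 2, 1, 0, 1] !![2, 0, 1, 1; 2, 0, 1, 0; 2, 0, 0, 1; 2, 1, 1, 1]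
theorem p57 : N34 * N34 = N35 := by decide +kernel
theorem w58 : N33 ^ 4 = N35 := dbl w56 p57
/-- the element -/
def z7 : S8 := (y ^ 1 * x ^ 7) ^ 4
theorem rho_z7 : rho z7 = N35 := by
  unfold z7
  rw [map_pow]
  have h : rho (y ^ 1 * x ^ 7) = N33 := by
    rw [map_mul, map_pow rho y, map_pow rho x, rho_y, rho_x, w15, w52, p53]
  rw [h, w58]
theorem mem_z7 {K : Subgroup T8} (hx : pr x ∈ K) (hy : pr y ∈ K) : pr z7 ∈ K := by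
  unfold z7
  rw [map_pow]
  refine K.pow_mem ?_ 4
  rw [map_mul, map_pow pr y, map_pow pr x]
  exact (K.mul_mem (K.pow_mem hy 1) (K.pow_mem hx 7))
attribute [irreducible] z7
def N36 : M8 := Matrix.fromBlocks !![1, 0, 0, 0; 0, 1, 1, 1; 2, 0, 1, 0; 0, 0, 0, 1] !![0, 2, 0, 2; 2, 2, 1, 0; 0, 0, 0, 1; 1, 0, 0, 0] !![0, 0, 0, 2; 0, 0, 0, 0; 0, 0, 0, 2; 0, 0, 1, 0] !![0, 2, 1, 0; 0, 1, 0, 0; 2, 2, 1, 0; 0, 1, 0, 1]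
theorem p59 : N22 * N24 = N36 := by decide +kernel
theorem w60 : N36 ^ 1 = N36 := pow_one _
/-- the element -/
def z13 : S8 := (y ^ 2 * x ^ 16) ^ 1
theorem rho_z13 : rho z13 = N36 := by
  unfold z13
  rw [map_pow]
  have h : rho (y ^ 2 * x ^ 16) = N36 := by
    rw [map_mul, map_pow rho y, map_pow rho x, rho_y, rho_x, w32, w36, p59]
  rw [h, w60]
theorem mem_z13 {K : Subgroup T8} (hx : pr x ∈ K) (hy : pr y ∈ K) : pr z13 ∈ K := by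
  unfold z13
  rw [map_pow]
  refine K.pow_mem ?_ 1
  rw [map_mul, map_pow pr y, map_pow pr x]
  exact (K.mul_mem (K.pow_mem hy 2) (K.pow_mem hx 16))
attribute [irreducible] z13
theorem o_t2 : (rho t2 ^ 2 = 1 ∨ rho t2 ^ 2 = -1) ∧ rho t2 ≠ 1 ∧ rho t2 ≠ -1 := by
  rw [rho_t2, pow_two]
  exact ⟨Or.inl (by decide +kernel), by decide +kernel, by decide +kernel⟩
theorem p61 : N22 * N14 = 1 := by decide +kernel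
theorem w62 : N14 ^ 3 = 1 := suc w32 p61
theorem o_t3 : rho t3 ^ 3 = 1 ∧ rho t3 ≠ 1 := by
  rw [rho_t3]
  exact ⟨w62, by decide +kernel⟩
theorem w63 : N19 ^ 1 = N19 := pow_one _
theorem w64 : N19 ^ 2 = N20 := dbl w63 p27
def N37 : M8 := Matrix.fromBlocks !![1, 2, 0, 2; 2, 0, 2, 0; 1, 2, 1, 2; 0, 2, 2, 1] !![0, 2, 1, 1; 0, 1, 0, 1; 0, 2, 1, 2; 1, 0, 2, 2] !![2, 0, 1, 2; 2, 0, 1, 2; 0, 1, 1, 0; 2, 2, 0, 2] !![2, 0, 0, 1; 0, 2, 1, 1; 0, 2, 1, 1; 0, 2, 1, 1]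
theorem p65 : N20 * N20 = N37 := by decide +kernel
theorem w66 : N19 ^ 4 = N37 := dbl w64 p65
theorem p67 : N37 * N19 = 1 := by decide +kernel
theorem w68 : N19 ^ 5 = 1 := suc w66 p67
theorem o_ya : rho ya ^ 5 = 1 ∧ rho ya ≠ 1 := by
  rw [rho_ya]
  exact ⟨w68, by decide +kernel⟩
theorem w69 : N29 ^ 1 = N29 := pow_one _
def N38 : M8 := Matrix.fromBlocks !![1, 0, 2, 0; 0, 0, 0, 1; 1, 0, 1, 0; 2, 1, 0, 1] !![2, 0, 2, 2; 2, 2, 1, 0; 1, 2, 2, 0; 1, 1, 1, 0] !![1, 2, 0, 0; 2, 1, 2, 1; 1, 2, 0, 1; 2, 0, 0, 2] !![0, 0, 1, 0; 0, 2, 1, 2; 2, 2, 0, 0; 1, 1, 0, 2]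
theorem p70 : N29 * N29 = N38 := by decide +kernel
theorem w71 : N29 ^ 2 = N38 := dbl w69 p70
def N39 : M8 := Matrix.fromBlocks !![2, 2, 1, 0; 0, 0, 1, 1; 0, 2, 1, 1; 2, 0, 0, 1] !![1, 1, 2, 0; 0, 1, 2, 1; 1, 1, 1, 0; 0, 1, 2, 0] !![2, 2, 2, 0; 0, 2, 1, 0; 0, 1, 0, 2; 1, 2, 0, 1] !![2, 0, 1, 2; 1, 0, 0, 0; 1, 0, 0, 0; 2, 0, 2, 1]
theorem p72 : N38 * N38 = N39 := by decide +kernel
theorem w73 : N29 ^ 4 = N39 := dbl w71 p72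
theorem p74 : N39 * N29 = 1 := by decide +kernel
theorem w75 : N29 ^ 5 = 1 := suc w73 p74
theorem o_yb : rho yb ^ 5 = 1 ∧ rho yb ≠ 1 := by
  rw [rho_yb]
  exact ⟨w75, by decide +kernel⟩
theorem w76 : N35 ^ 1 = N35 := pow_one _
def N40 : M8 := Matrix.fromBlocks !![1, 0, 2, 0; 2, 1, 2, 2; 2, 2, 0, 0; 2, 1, 0, 0] !![1, 2, 1, 2; 1, 1, 2, 1; 2, 1, 2, 1; 1, 1, 2, 1] !![1, 1, 1, 1; 0, 0, 2, 0; 2, 2, 1, 2; 2, 2, 0, 2] !![1, 2, 0, 0; 1, 0, 0, 2; 1, 2, 0, 0; 2, 0, 0, 1]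
theorem p77 : N35 * N35 = N40 := by decide +kernel
theorem w78 : N35 ^ 2 = N40 := dbl w76 p77
def N41 : M8 := Matrix.fromBlocks !![2, 0, 2, 1; 1, 1, 2, 0; 1, 1, 0, 1; 0, 1, 1, 0] !![1, 0, 2, 0; 2, 0, 2, 2; 2, 0, 0, 1; 1, 0, 0, 2] !![2, 0, 1, 2; 2, 0, 1, 2; 0, 1, 1, 1; 0, 2, 2, 2] !![0, 1, 2, 2; 2, 2, 1, 2; 2, 2, 2, 2; 1, 0, 0, 0]
theorem p79 : N40 * N35 = N41 := by decide +kernel
theorem w80 : N35 ^ 3 = N41 := suc w78 p79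
def N42 : M8 := Matrix.fromBlocks !![2, 2, 2, 2; 0, 0, 0, 1; 1, 1, 0, 1; 1, 0, 1, 1] !![2, 2, 1, 1; 1, 0, 0, 0; 2, 2, 2, 2; 0, 1, 1, 2] !![1, 0, 1, 2; 1, 2, 0, 1; 1, 0, 1, 0; 0, 0, 1, 1] !![2, 0, 0, 2; 2, 2, 0, 0; 0, 1, 0, 2; 1, 1, 0, 0]
theorem p81 : N41 * N41 = N42 := by decide +kernel
theorem w82 : N35 ^ 6 = N42 := dbl w80 p81
theorem p83 : N42 * N35 = 1 := by decide +kernel
theorem w84 : N35 ^ 7 = 1 := suc w82 p83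
theorem o_z7 : rho z7 ^ 7 = 1 ∧ rho z7 ≠ 1 := by
  rw [rho_z7]
  exact ⟨w84, by decide +kernel⟩
def N43 : M8 := Matrix.fromBlocks !![1, 0, 2, 0; 2, 1, 2, 2; 1, 0, 2, 0; 0, 0, 0, 0] !![0, 0, 0, 1; 2, 1, 1, 1; 0, 2, 0, 0; 1, 2, 1, 0] !![0, 0, 0, 1; 0, 0, 0, 0; 0, 0, 0, 2; 2, 0, 2, 0] !![1, 1, 1, 0; 0, 1, 0, 0; 1, 2, 0, 0; 0, 2, 0, 2]
theorem p85 : N36 * N36 = N43 := by decide +kernel
theorem w86 : N36 ^ 2 = N43 := dbl w60 p85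
def N44 : M8 := Matrix.fromBlocks !![2, 0, 0, 0; 0, 1, 1, 0; 2, 0, 2, 0; 0, 0, 0, 1] !![0, 0, 0, 2; 0, 2, 1, 1; 0, 1, 0, 1; 2, 0, 2, 0] !![0, 0, 0, 2; 0, 0, 0, 0; 0, 0, 0, 1; 0, 0, 1, 0] !![0, 2, 2, 0; 0, 1, 0, 0; 2, 1, 1, 0; 0, 2, 0, 2]
theorem p87 : N43 * N36 = N44 := by decide +kernel
theorem w88 : N36 ^ 3 = N44 := suc w86 p87
def N45 : M8 := Matrix.fromBlocks !![1, 0, 2, 0; 2, 1, 1, 1; 2, 0, 2, 0; 0, 0, 0, 1] !![0, 1, 0, 2; 2, 2, 2, 1; 0, 2, 0, 2; 0, 0, 2, 0] !![0, 0, 0, 1; 0, 0, 0, 0; 0, 0, 0, 0; 2, 0, 1, 0] !![2, 1, 0, 0; 0, 1, 0, 0; 1, 0, 1, 0; 0, 1, 0, 2]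
theorem p89 : N44 * N44 = N45 := by decide +kernel
theorem w90 : N36 ^ 6 = N45 := dbl w88 p89
def N46 : M8 := Matrix.fromBlocks !![0, 0, 2, 0; 2, 1, 2, 1; 1, 0, 1, 0; 0, 0, 0, 1] !![0, 2, 0, 1; 2, 2, 0, 0; 0, 1, 0, 0; 2, 0, 1, 0] !![0, 0, 0, 0; 0, 0, 0, 0; 0, 0, 0, 1; 2, 0, 2, 0] !![1, 0, 2, 0; 0, 1, 0, 0; 0, 1, 1, 0; 0, 1, 0, 1]
theorem p91 : N45 * N45 = N46 := by decide +kernel
theorem w92 : N36 ^ 12 = N46 := dbl w90 p91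
theorem p93 : N46 * N36 = 1 := by decide +kernel
theorem w94 : N36 ^ 13 = 1 := suc w92 p93
theorem o_z13 : rho z13 ^ 13 = 1 ∧ rho z13 ≠ 1 := by
  rw [rho_z13]
  exact ⟨w94, by decide +kernel⟩
theorem f_ya : ∃ v : I8 → R3, (rho ya).mulVec v = v ∧ v ≠ 0 := by
  rw [rho_ya]
  exact ⟨Sum.elim ![0, 0, 0, 1] ![1, 0, 1, 0], by decide +kernel, by decide +kernel⟩
def N47 : M8 := Matrix.fromBlocks !![0, 0, 2, 1; 0, 2, 2, 1; 1, 1, 0, 0; 0, 2, 0, 2] !![2, 2, 1, 1; 0, 2, 2, 1; 2, 1, 2, 1; 2, 0, 0, 0] !![1, 2, 1, 2; 2, 1, 2, 0; 0, 2, 0, 0; 0, 1, 1, 2] !![1, 0, 1, 2; 0, 0, 0, 1; 2, 0, 1, 0; 0, 1, 0, 1]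
theorem p95 : N38 * N29 = N47 := by decide +kernel
theorem w96 : N29 ^ 3 = N47 := suc w71 p95
theorem f_yb : rho yb ^ 4 + rho yb ^ 3 + rho yb ^ 2 + rho yb + 1 = 0 := by
  rw [rho_yb, w73, w96, w71]
  decide +kernel
/-- **the certificate** -/
theorem top (OT : OrdDiv.OrderTable.{0})
    (hS : ∀ (X : Type) [Group X] [Finite X] [IsSimpleGroup X], Cfsg.IsKnownSimple' X)
    {K : Subgroup T8} (hx : pr x ∈ K) (hy : pr y ∈ K) : K = ⊤ :=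
  top_of OT hS ⟨mem_t2 hx hy, o_t2, mem_t3 hx hy, o_t3, mem_ya hx hy, o_ya, f_ya, mem_yb hx hy, o_yb, f_yb, mem_z7 hx hy, o_z7,
    mem_z13 hx hy, o_z13⟩
def N48 : M8 := Matrix.fromBlocks !![1, 0, 0, 0; 0, 1, 0, 0; 0, 0, 1, 0; 0, 0, 0, 1] !![0, 1, 0, 0; 2, 0, 0, 0; 0, 0, 0, 0; 0, 0, 0, 0] !![0, 0, 0, 0; 0, 0, 0, 0; 0, 0, 0, 0; 0, 0, 0, 0] !![1, 0, 0, 0; 0, 1, 0, 0; 0, 0, 1, 0; 0, 0, 0, 1]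
theorem p97 : N31 * N31 = N48 := by decide +kernel
theorem w98 : N13 ^ 12 = N48 := dbl w50 p97
theorem p99 : N48 * N48 = N12 := by decide +kernel
theorem w100 : N13 ^ 24 = N12 := dbl w98 p99
theorem x_pow : x ^ 24 = rt (.inl 0) (.inl 1) (by decide) (by decide) := by
  apply rho_injective
  rw [map_pow, rho_x, w100, r12]

end Cfsg.Agent.H304.Spr.Spe
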