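import Cfsg.Agent.H304.Spr.CertO
import Cfsg.Agent.H304.Spr.CertS
import Cfsg.Agent.H304.Spr.CertR
import Cfsg.Agent.H465.OEGrp

/-!
# S3938, `PΩ⁺₈(3)`: the three generation theorems (helper304)

* `gen_opp`, `gen_spe`, `gen_refl` in `P8 (ZMod 3)`
-/

set_option autoImplicit false
set_option maxRecDepth 100000

namespace Cfsg.Agent.H304.Spr

open Subgroup Cfsg Cfsg.Agent Cfsg.Agent.H503.El.O83 Cfsg.Agent.H938.Sax Matrix QuadraticMap
open Cfsg.Agent.LieClassical.OrthCore Cfsg.Agent.LieClassical.OrthTrans Cfsg.Agent.ClassicalGeometry.OrthAut1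
open Cfsg.Agent.ClassicalGeometry.OrthAut2 Cfsg.Agent.LieClassical.QuadForms Cfsg.Agent.ClassicalGeometry.Triality
open Cfsg.Agent.ClassicalGeometry.OrthSemi Cfsg.Agent.H198.TriAut Cfsg.Agent.H465.OEight

theorem good3 : Good (plusForm 4 R3) := ClassicalGeometry.OrthSemiForms.good_plus (by norm_num)

/-- the isomorphism, general form -/
theorem exists_phi' (q : (I8 → R3) → R3) (hq : ⇑(plusForm 4 R3) = q) :
    ∃ φ : POmega R3 q ≃* P8 R3, ∀ (g : Omega R3 q) (h : ↥(E (plusForm 4 R3))),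
      (∀ v, (h : V8 R3 ≃ₗ[R3] V8 R3) v =
        (((g : Cfsg.isometryGroup R3 q) : Matrix.GeneralLinearGroup I8 R3) : Matrix I8 I8 R3) *ᵥ v) →
        φ (QuotientGroup.mk g) = (h : P8 R3) := by
  subst hq
  refine ⟨AutOrth.Main.pe good3, fun g h hv => ?_⟩
  rw [AutOrth.Main.pe_mk]
  have h1 : AutOrth.Main.oe good3 g = h := by
    apply Subtype.ext
    apply LinearEquiv.ext
    intro v
    rw [hv, AutOrth.Main.oe_apply]
  rw [h1]

/-- the isomorphism -/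
theorem exists_phi : ∃ φ : T8 ≃* P8 R3, ∀ (g : S8) (h : ↥(E (plusForm 4 R3))),
      (∀ v, (h : V8 R3 ≃ₗ[R3] V8 R3) v = rho g *ᵥ v) → φ (pr g) = (h : P8 R3) :=
  exists_phi' Q8 (coe_plusForm 4)

/-- the elements of `E` -/
theorem exists_E' (q : (I8 → R3) → R3) (hq : ⇑(plusForm 4 R3) = q) (g : Omega R3 q) :
    ∃ h : ↥(E (plusForm 4 R3)), ∀ v, (h : V8 R3 ≃ₗ[R3] V8 R3) v =
        (((g : Cfsg.isometryGroup R3 q) : Matrix.GeneralLinearGroup I8 R3) : Matrix I8 I8 R3) *ᵥ v := by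
  subst hq
  exact ⟨AutOrth.Main.oe good3 g, fun v => AutOrth.Main.oe_apply good3 g v⟩

/-- the elements of `E` -/
theorem exists_E (g : S8) : ∃ h : ↥(E (plusForm 4 R3)), ∀ v, (h : V8 R3 ≃ₗ[R3] V8 R3) v = rho g *ᵥ v :=
  exists_E' Q8 (coe_plusForm 4) g

/-- the basis vectors -/
abbrev bv (p : I8) : V8 R3 := Pi.single p 1

theorem polar_bv (p : I8) (v : V8 R3) : polar (plusForm 4 R3) (bv p) v = v (sw p) := by
  rw [polar_plusForm]
  rcases p with p | p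
  · rw [Finset.sum_eq_single p]
    · simp [bv, sw]
    · intro i _ hi
      simp [bv, hi]
    · intro h; exact absurd (Finset.mem_univ _) h
  · rw [Finset.sum_eq_single p]
    · simp [bv, sw]
    · intro i _ hi
      simp [bv, hi]
    · intro h; exact absurd (Finset.mem_univ _) h

theorem q_bv (p : I8) : plusForm 4 R3 (bv p) = 0 := by
  rw [plusForm_apply]
  rcases p with p | p <;> simp [bv]

theorem sw_sw (p : I8) : sw (sw p) = p := by cases p <;> rfl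

theorem sw_eq {c p : I8} : sw c = p ↔ c = sw p := by
  constructor
  · rintro rfl; rw [sw_sw]
  · rintro rfl; rw [sw_sw]

theorem polar_bv_bv {p q : I8} (h' : q ≠ sw p) : polar (plusForm 4 R3) (bv p) (bv q) = 0 := by
  rw [polar_bv, bv, Pi.single_eq_of_ne h'.symm]

theorem Rm_mulVec (p q : I8) (v : V8 R3) : Rm p q *ᵥ v = v + v (sw p) • bv q - v (sw q) • bv p := by
  ext r
  simp only [mulVec, dotProduct, Rm, Matrix.of_apply, sub_mul, add_mul, Finset.sum_sub_distrib, Finset.sum_add_distrib,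
    Pi.sub_apply, Pi.add_apply, Pi.smul_apply, smul_eq_mul, bv, Pi.single_apply, sw_eq]
  simp [ite_mul, mul_ite]

/-- the root element in `P8` -/
theorem phi_rt {φ : T8 ≃* P8 R3} (hφ : ∀ (g : S8) (h : ↥(E (plusForm 4 R3))),
      (∀ v, (h : V8 R3 ≃ₗ[R3] V8 R3) v = rho g *ᵥ v) → φ (pr g) = (h : P8 R3)) (p q : I8) (h : q ≠ p) (h' : q ≠ sw p) :
    φ (pr (rt p q h h')) = ((sg (bv p) (bv q) (q_bv p) (polar_bv_bv h') : ↥(E (plusForm 4 R3))) : P8 R3) := by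
  apply hφ
  intro v
  rw [rho_rt, sg_apply, Rm_mulVec, polar_bv, polar_bv, q_bv, zero_mul, zero_smul, sub_zero]

variable (OT : OrdDiv.OrderTable.{0})
  (hS : ∀ (X : Type) [Group X] [Finite X] [IsSimpleGroup X], Cfsg.IsKnownSimple' X)

theorem map_top {φ : T8 ≃* P8 R3} {K : Subgroup (P8 R3)} (h : K.comap φ.toMonoidHom = ⊤) : K = ⊤ := by
  rw [eq_top_iff]
  intro k _
  have h1 : φ.symm k ∈ K.comap φ.toMonoidHom := by rw [h]; exact Subgroup.mem_top _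
  have h2 : φ (φ.symm k) ∈ K := h1
  rwa [MulEquiv.apply_symm_apply] at h2

include OT hS

/-- **generation, opposite root** -/
theorem gen_opp : ∃ x : P8 R3,
    (∃ m : ℕ, x ^ m = ((sg (bv (.inl 0)) (bv (.inl 1)) (q_bv _) (polar_bv_bv (by decide)) : ↥(E (plusForm 4 R3))) : P8 R3)) ∧
    ∀ K : Subgroup (P8 R3), x ∈ K →
      ((sg (bv (.inr 0)) (bv (.inr 1)) (q_bv _) (polar_bv_bv (by decide)) : ↥(E (plusForm 4 R3))) : P8 R3) ∈ K → K = ⊤ := by
  obtain ⟨φ, hφ⟩ := exists_phi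
  refine ⟨φ (pr Opp.x), ⟨24, ?_⟩, fun K hx hy => map_top (φ := φ) (Opp.top OT hS hx ?_)⟩
  · rw [← map_pow, ← map_pow, Opp.x_pow]
    exact phi_rt hφ _ _ _ _
  · show φ (pr Opp.y) ∈ K
    unfold Opp.y
    rw [phi_rt hφ]
    exact hy

/-- **generation, special root** -/
theorem gen_spe : ∃ x : P8 R3,
    (∃ m : ℕ, x ^ m = ((sg (bv (.inl 0)) (bv (.inl 1)) (q_bv _) (polar_bv_bv (by decide)) : ↥(E (plusForm 4 R3))) : P8 R3)) ∧
    ∀ K : Subgroup (P8 R3), x ∈ K →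
      ((sg (bv (.inr 0)) (bv (.inl 2)) (q_bv _) (polar_bv_bv (by decide)) : ↥(E (plusForm 4 R3))) : P8 R3) ∈ K → K = ⊤ := by
  obtain ⟨φ, hφ⟩ := exists_phi
  refine ⟨φ (pr Spe.x), ⟨24, ?_⟩, fun K hx hy => map_top (φ := φ) (Spe.top OT hS hx ?_)⟩
  · rw [← map_pow, ← map_pow, Spe.x_pow]
    exact phi_rt hφ _ _ _ _
  · show φ (pr Spe.y) ∈ K
    unfold Spe.y
    rw [phi_rt hφ]
    exact hy

/-- **generation, a reflection** -/
theorem gen_refl (b : SG R3) (hb : ∀ v : V8 R3, (b : V8 R3 ≃ₗ[R3] V8 R3) v = v ∘ Equiv.swap (.inl 0) (.inr 0)) :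
    ∃ x : P8 R3, ∀ K : Subgroup (P8 R3), x ∈ K → psi b x ∈ K → K = ⊤ := by
  obtain ⟨φ, hφ⟩ := exists_phi
  obtain ⟨h, hh⟩ := exists_E Rfl.x
  obtain ⟨k, hk⟩ := exists_E Rfl.y
  refine ⟨φ (pr Rfl.x), fun K hx hy => map_top (φ := φ) (Rfl.top OT hS hx ?_)⟩
  show φ (pr Rfl.y) ∈ K
  rw [hφ _ k hk]
  rw [hφ _ h hh, psi_mk] at hy
  have h1 : (⟨b.1 * h.1 * b.1⁻¹, conj_mem_E b h.2⟩ : ↥(E (plusForm 4 R3))) = k := by
    apply Subtype.ext
    apply LinearEquiv.ext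
    intro v
    have h2 : (b.1⁻¹ : V8 R3 ≃ₗ[R3] V8 R3) v = v ∘ Equiv.swap (.inl 0) (.inr 0) := by
      apply b.1.injective
      have h4 : b.1 ((b.1⁻¹ : V8 R3 ≃ₗ[R3] V8 R3) v) = v := b.1.apply_symm_apply v
      rw [h4, hb (v ∘ _), Function.comp_assoc]
      have h3 : (⇑(Equiv.swap (.inl 0 : I8) (.inr 0)) ∘ ⇑(Equiv.swap (.inl 0 : I8) (.inr 0))) = id := by
        funext i
        exact Equiv.swap_apply_self _ _ i
      rw [h3, Function.comp_id]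
    show b.1 (h.1 ((b.1⁻¹ : V8 R3 ≃ₗ[R3] V8 R3) v)) = _
    rw [h2, hh, hb, hk]
    have h3 : rho Rfl.y = (rho Rfl.x).submatrix (Equiv.swap (.inl 0) (.inr 0)) (Equiv.swap (.inl 0) (.inr 0)) := by
      rw [Rfl.rho_x, Rfl.rho_y]
      decide +kernel
    rw [h3, Matrix.submatrix_mulVec_equiv, Equiv.symm_swap]
  rwa [h1] at hy

end Cfsg.Agent.H304.Spr
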